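import Groth.Prelude.Def_Disc
import Groth.Agent.HenselLib.LocalInt
import Groth.Agent.FlatCrit.Inj
import Mathlib.RingTheory.Flat.FaithfullyFlat.Algebra
import Mathlib.RingTheory.LocalRing.Module
import Mathlib.Algebra.Module.FinitePresentation
import Mathlib.RingTheory.Flat.Tensor
import Mathlib.RingTheory.AdicCompletion.LocalRing
import Mathlib.RingTheory.AdicCompletion.AsTensorProduct
import Mathlib.RingTheory.RingHom.Flat

/-! Flatness of the relative dualizing module. -/

universe u

set_option autoImplicit false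
set_option backward.isDefEq.respectTransparency false

open TensorProduct Disc

namespace Groth.Agent.Disc12

open Groth.Agent

/-- `Omega` as an `A`-module. -/
noncomputable local instance omegaModule {A B : Type u} [CommRing A] [CommRing B] [Algebra A B] :
    Module A (Omega A B) := Module.compHom _ (algebraMap A B)

local instance omegaTower {A B : Type u} [CommRing A] [CommRing B] [Algebra A B] :
    IsScalarTower A B (Omega A B) := IsScalarTower.of_algebraMap_smul fun _ _ => rfl

theorem omega_smul_apply {A B : Type u} [CommRing A] [CommRing B] [Algebra A B] (a : A) (φ : Omega A B)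
    (x : B) : (a • φ).toLinearMap x = a • φ.toLinearMap x := by
  show φ.toLinearMap (algebraMap A B a * x) = _
  rw [← Algebra.smul_def, map_smul]

/-- `Omega` is the dual module. -/
noncomputable def omegaEquiv (A B : Type u) [CommRing A] [CommRing B] [Algebra A B] :
    Omega A B ≃ₗ[A] (B →ₗ[A] A) where
  toFun φ := φ.toLinearMap
  invFun f := ⟨f⟩
  map_add' _ _ := rfl
  map_smul' a φ := LinearMap.ext fun x => omega_smul_apply a φ x

theorem exists_ker_generator {R T : Type u} [CommRing R] [HenselianLocalRing R] [CommRing T] [Algebra R T]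
    [Module.Finite R T] (Q : Ideal T) [Q.IsMaximal] :
    ∃ e : T, IsIdempotentElem e ∧ Function.Surjective (algebraMap T (Localization.AtPrime Q)) ∧
      RingHom.ker (algebraMap T (Localization.AtPrime Q)) = Ideal.span {e} := by
  have := HenselLib.isArtinianRing_closedFibre R T
  obtain ⟨-, he⟩ := HenselLib.exists_idempotents_maximalSpectrum _ (HenselLib.map_maximalIdeal_le_jacobson R T)
    ((HenselLib.isPiLocal_iff_idemLift R T).mp (HenselLib.isPiLocal_of_henselian R T))
  obtain ⟨e, hidem, heQ, hothers⟩ := he ⟨Q, inferInstance⟩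
  refine ⟨1 - e, hidem.one_sub, HenselLib.LocalInt.surjective_algebraMap_localization R Q, ?_⟩
  refine le_antisymm (fun x hx => ?_) ((Ideal.span_singleton_le_iff_mem _).2 ?_)
  · obtain ⟨⟨t, ht⟩, htx⟩ := (IsLocalization.map_eq_zero_iff Q.primeCompl (Localization.AtPrime Q) x).1 hx
    have hunit : IsUnit (t * e + (1 - e)) := HenselLib.isUnit_of_forall_notMem fun N hN hmem => by
      by_cases h : (⟨N, hN⟩ : MaximalSpectrum T) = ⟨Q, inferInstance⟩
      · have hN' : N = Q := congrArg MaximalSpectrum.asIdeal h
        subst hN'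
        have h1 : (1 - e) ∈ N := ((inferInstance : N.IsPrime).mem_or_mem
          (show e * (1 - e) ∈ N by rw [mul_sub, mul_one, hidem.eq, sub_self]; exact zero_mem _)
          ).resolve_left heQ
        have h2 : t * e ∈ N := by simpa using N.sub_mem hmem h1
        exact ((inferInstance : N.IsPrime).mem_or_mem h2).elim (fun h3 => ht h3) heQ
      · have h1 : e ∈ N := hothers ⟨N, hN⟩ h
        exact hN.ne_top ((Ideal.eq_top_iff_one _).mpr (by
          have := N.sub_mem hmem (N.mul_mem_left t h1)
          rw [add_sub_cancel_left] at this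
          simpa using N.add_mem this h1))
    have hxe : x * e = 0 := hunit.mul_right_eq_zero.1 (by
      have htx' : t * x = 0 := htx
      linear_combination e ^ 2 * htx' - x * hidem.eq)
    rw [Ideal.mem_span_singleton]
    exact ⟨x, by linear_combination hxe⟩
  · rw [RingHom.mem_ker, IsLocalization.map_eq_zero_iff Q.primeCompl (Localization.AtPrime Q)]
    exact ⟨⟨e, heQ⟩, by show e * (1 - e) = 0; rw [mul_sub, mul_one, hidem.eq, sub_self]⟩

attribute [local instance] Algebra.TensorProduct.rightAlgebra

variable {A B' R : Type u} [CommRing A] [CommRing B'] [CommRing R] [Algebra A B'] [Algebra A R]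

/-- Base change of a functional. -/
noncomputable def omegaBC (h : B' →ₗ[A] A) : Omega R (R ⊗[A] B') :=
  ⟨((Algebra.linearMap A R).comp h).liftBaseChange R⟩

theorem omegaBC_tmul (h : B' →ₗ[A] A) (a : R) (b : B') :
    (omegaBC h : Omega R (R ⊗[A] B')).toLinearMap (a ⊗ₜ b) = a * algebraMap A R (h b) := by
  simp [omegaBC]

theorem algebraMap_right (b : B') : algebraMap B' (R ⊗[A] B') b = 1 ⊗ₜ b := rfl

/-- The `B'`-action on functionals on the base change. -/
noncomputable local instance omegaRight : Module B' (Omega R (R ⊗[A] B')) :=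
  Module.compHom _ (algebraMap B' (R ⊗[A] B'))

local instance omegaRightTower : IsScalarTower B' (R ⊗[A] B') (Omega R (R ⊗[A] B')) :=
  IsScalarTower.of_algebraMap_smul fun _ _ => rfl

theorem flat_right [Module.Flat A R] : Module.Flat B' (R ⊗[A] B') := by
  let e : B' ⊗[A] R ≃ₗ[B'] R ⊗[A] B' :=
    { TensorProduct.comm A B' R with
      map_smul' := fun b z => by
        show TensorProduct.comm A B' R (b • z) = algebraMap B' (R ⊗[A] B') b * TensorProduct.comm A B' R z
        induction z with
        | zero => simp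
        | add x y hx hy => simp only [smul_add, map_add, hx, hy, mul_add]
        | tmul c x => simp [smul_tmul', algebraMap_right] }
  exact Module.Flat.of_linearEquiv e.symm

/-- Base change of functionals, linear over `B'`. -/
noncomputable def omegaBCLin : Omega A B' →ₗ[B'] Omega R (R ⊗[A] B') :=
  { toFun := fun φ => omegaBC φ.toLinearMap
    map_add' := fun φ ψ => by
      refine Omega.toLinearMap_injective (TensorProduct.AlgebraTensorModule.ext fun a b => ?_)
      simp [omegaBC_tmul, mul_add]
    map_smul' := fun c φ => by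
      refine Omega.toLinearMap_injective (TensorProduct.AlgebraTensorModule.ext fun a b => ?_)
      show _ = (omegaBC φ.toLinearMap).toLinearMap (algebraMap B' (R ⊗[A] B') c * a ⊗ₜ b)
      rw [algebraMap_right, Algebra.TensorProduct.tmul_mul_tmul, one_mul, omegaBC_tmul, omegaBC_tmul]
      rfl }

theorem bijective_omegaBC [IsNoetherianRing A] [Module.Finite A B'] [Module.Flat A R] :
    ∃ β : R ⊗[A] (B' →ₗ[A] A) ≃ₗ[R] Omega R (R ⊗[A] B'), ∀ a h, β (a ⊗ₜ h) = a • omegaBC h := by
  have : Module.FinitePresentation A B' := Module.finitePresentation_of_finite A B'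
  have hb := Module.FinitePresentation.isBaseChange_map A B' A R
  refine ⟨hb.equiv ≪≫ₗ LinearEquiv.congrRight (AlgebraTensorModule.rid A R R) ≪≫ₗ
    (omegaEquiv R (R ⊗[A] B')).symm, fun a h => ?_⟩
  refine Omega.toLinearMap_injective (TensorProduct.AlgebraTensorModule.ext fun x y => ?_)
  rw [omega_smul_apply, omegaBC_tmul]
  show AlgebraTensorModule.rid A R R ((hb.equiv (a ⊗ₜ h)) (x ⊗ₜ y)) = _
  rw [IsBaseChange.equiv_tmul]
  simp [Algebra.smul_def]
  ring

theorem flat_tensor_omega [IsNoetherianRing A] [Module.Finite A B'] [Module.Flat A R]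
    [HenselianLocalRing R] (Q : Ideal (R ⊗[A] B')) [Q.IsMaximal]
    [Module.Flat R (Localization.AtPrime Q)] :
    Module.Flat A (Localization.AtPrime Q ⊗[B'] Omega A B') := by
  let C := Localization.AtPrime Q
  have : Module.Finite R (R ⊗[A] B') := inferInstance
  obtain ⟨e, he, hπ, hker⟩ := exists_ker_generator (R := R) Q
  let π : (R ⊗[A] B') →ₐ[R] C := IsScalarTower.toAlgHom R (R ⊗[A] B') C
  have hπ' : Function.Surjective π := hπ
  have : Module.Finite R C := Module.Finite.of_surjective π.toLinearMap hπ'
  have : Module.Free R C := Module.free_of_flat_of_isLocalRing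
  let μ : (R ⊗[A] B') →ₗ[R] (R ⊗[A] B') := LinearMap.mulLeft R (1 - e)
  have hμ : LinearMap.ker π.toLinearMap ≤ LinearMap.ker μ := fun x hx => by
    have hx' : x ∈ RingHom.ker (algebraMap (R ⊗[A] B') C) := hx
    rw [hker, Ideal.mem_span_singleton] at hx'
    obtain ⟨y, rfl⟩ := hx'
    show (1 - e) * (e * y) = 0
    rw [← mul_assoc, sub_mul, one_mul, he.eq, sub_self, zero_mul]
  let σ : C →ₗ[R] (R ⊗[A] B') := ((LinearMap.ker π.toLinearMap).liftQ μ hμ).comp
    (π.toLinearMap.quotKerEquivOfSurjective hπ').symm.toLinearMap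
  have hσ : ∀ x, σ (π x) = (1 - e) * x := fun x => by
    show (LinearMap.ker π.toLinearMap).liftQ μ hμ ((π.toLinearMap.quotKerEquivOfSurjective hπ').symm (π x)) = _
    rw [show (π.toLinearMap.quotKerEquivOfSurjective hπ').symm (π x) = Submodule.Quotient.mk x from
      (LinearEquiv.symm_apply_eq _).2 rfl]
    rfl
  let _ : Module B' (Omega R C) := Module.compHom _ (algebraMap B' C)
  have : IsScalarTower B' C (Omega R C) := IsScalarTower.of_algebraMap_smul fun _ _ => rfl
  let r : Omega R (R ⊗[A] B') →ₗ[B'] Omega R C :=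
    { toFun := fun f => ⟨f.toLinearMap.comp σ⟩
      map_add' := fun _ _ => rfl
      map_smul' := fun c f => by
        refine Omega.toLinearMap_injective (LinearMap.ext fun z => ?_)
        obtain ⟨x, rfl⟩ := hπ' z
        show f.toLinearMap (algebraMap B' (R ⊗[A] B') c * σ (π x)) = f.toLinearMap (σ (algebraMap B' C c * π x))
        rw [IsScalarTower.algebraMap_apply B' (R ⊗[A] B') C,
          show algebraMap (R ⊗[A] B') C (algebraMap B' (R ⊗[A] B') c) = π (algebraMap B' (R ⊗[A] B') c) from rfl, ← map_mul, hσ, hσ]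
        exact congrArg f.toLinearMap (mul_left_comm _ _ _) }
  -- base change to `(R ⊗[A] B')`
  let E : (R ⊗[A] B') ⊗[B'] Omega A B' →ₗ[(R ⊗[A] B')] Omega R (R ⊗[A] B') := omegaBCLin.liftBaseChange (R ⊗[A] B')
  obtain ⟨β, hβ⟩ := bijective_omegaBC (A := A) (B' := B') (R := R)
  let q : R ⊗[A] (B' →ₗ[A] A) →ₗ[A] (R ⊗[A] B') ⊗[B'] Omega A B' := TensorProduct.lift
    { toFun := fun a =>
        { toFun := fun h => (a ⊗ₜ[A] (1 : B')) ⊗ₜ[B'] (omegaEquiv A B').symm h
          map_add' := fun h h' => by rw [map_add, tmul_add]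
          map_smul' := fun c h => by rw [map_smul, RingHom.id_apply, tmul_smul] }
      map_add' := fun a a' => LinearMap.ext fun h => by
        show ((a + a') ⊗ₜ[A] (1 : B')) ⊗ₜ[B'] _ = _
        rw [add_tmul, add_tmul]; rfl
      map_smul' := fun c a => LinearMap.ext fun h => by
        rw [RingHom.id_apply, LinearMap.smul_apply]
        show ((c • a) ⊗ₜ[A] (1 : B')) ⊗ₜ[B'] (omegaEquiv A B').symm h =
          c • ((a ⊗ₜ[A] (1 : B')) ⊗ₜ[B'] (omegaEquiv A B').symm h)
        rw [← smul_tmul', ← smul_tmul'] }
  have hq : Function.Surjective q := fun z => by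
    induction z with
    | zero => exact ⟨0, map_zero _⟩
    | add x y hx hy =>
      obtain ⟨x, rfl⟩ := hx; obtain ⟨y, rfl⟩ := hy; exact ⟨x + y, map_add _ _ _⟩
    | tmul t φ =>
      induction t using TensorProduct.induction_on with
      | zero => exact ⟨0, by rw [map_zero, zero_tmul]⟩
      | add x y hx hy =>
        obtain ⟨x, hx⟩ := hx; obtain ⟨y, hy⟩ := hy
        exact ⟨x + y, by rw [map_add, hx, hy, add_tmul]⟩
      | tmul a b =>
        refine ⟨a ⊗ₜ (b • φ).toLinearMap, ?_⟩
        show (a ⊗ₜ[A] (1 : B')) ⊗ₜ[B'] (b • φ) = _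
        rw [← smul_tmul, Algebra.smul_def, algebraMap_right, Algebra.TensorProduct.tmul_mul_tmul,
          one_mul, mul_one]
  have hEq : ∀ z, E (q z) = β z := fun z => by
    induction z with
    | zero => simp
    | add x y hx hy => simp [hx, hy]
    | tmul a h =>
      rw [hβ]
      show E ((a ⊗ₜ[A] (1 : B')) ⊗ₜ[B'] (omegaEquiv A B').symm h) = _
      rw [LinearMap.liftBaseChange_tmul]
      rfl
  have hEinj : Function.Injective E := by
    rw [injective_iff_map_eq_zero]
    intro z hz
    obtain ⟨w, rfl⟩ := hq z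
    rw [hEq, LinearEquiv.map_eq_zero_iff] at hz
    rw [hz, map_zero]
  have hEsurj : Function.Surjective E := fun f => by
    obtain ⟨w, rfl⟩ := β.surjective f
    exact ⟨q w, hEq w⟩
  -- restrict to `C`
  let Ψ : C ⊗[B'] Omega A B' →ₗ[C] Omega R C := (r.comp omegaBCLin).liftBaseChange C
  let P : (R ⊗[A] B') ⊗[B'] Omega A B' →ₗ[B'] C ⊗[B'] Omega A B' :=
    (IsScalarTower.toAlgHom B' (R ⊗[A] B') C).toLinearMap.rTensor _
  have hP : Function.Surjective P := LinearMap.rTensor_surjective _ hπ
  have hrt : ∀ (t : (R ⊗[A] B')) f, r (t • f) = π t • r f := fun t f => by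
    refine Omega.toLinearMap_injective (LinearMap.ext fun z => ?_)
    obtain ⟨x, rfl⟩ := hπ' z
    show f.toLinearMap (t * σ (π x)) = f.toLinearMap (σ (π t * π x))
    rw [← map_mul, hσ, hσ, mul_left_comm]
  have hΨP : ∀ y, Ψ (P y) = r (E y) := fun y => by
    induction y with
    | zero => simp
    | add x y hx hy => simp [hx, hy]
    | tmul t φ =>
      show π t • r (omegaBCLin φ) = r (t • omegaBCLin φ)
      rw [hrt]
  have hPt : ∀ (t : (R ⊗[A] B')) y, P (t • y) = π t • P y := fun t y => by
    induction y with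
    | zero => simp
    | add x y hx hy => simp [hx, hy]
    | tmul s φ =>
      show π (t * s) ⊗ₜ φ = π t • (π s ⊗ₜ φ)
      rw [map_mul, smul_tmul', smul_eq_mul]
  have hΨ : Function.Bijective Ψ := by
    refine ⟨(injective_iff_map_eq_zero _).2 fun z hz => ?_, fun g => ?_⟩
    · obtain ⟨y, rfl⟩ := hP z
      rw [hΨP] at hz
      have h1 : E y = e • E y := by
        refine Omega.toLinearMap_injective (LinearMap.ext fun x => ?_)
        have h0 : (E y).toLinearMap (σ (π x)) = 0 := by
          have := congrArg (fun f : Omega R C => f.toLinearMap (π x)) hz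
          exact this
        rw [hσ, sub_mul, one_mul, map_sub, sub_eq_zero] at h0
        exact h0
      have h2 : y = e • y := hEinj (by rw [map_smul]; exact h1)
      have h3 : π e = 0 := by
        show e ∈ RingHom.ker (algebraMap (R ⊗[A] B') C)
        rw [hker]; exact Ideal.mem_span_singleton_self e
      rw [h2, hPt, h3, zero_smul]
    · obtain ⟨y, hy⟩ := hEsurj ⟨g.toLinearMap.comp π.toLinearMap⟩
      refine ⟨P y, ?_⟩
      rw [hΨP, hy]
      refine Omega.toLinearMap_injective (LinearMap.ext fun z => ?_)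
      obtain ⟨x, rfl⟩ := hπ' z
      show g.toLinearMap (π (σ (π x))) = g.toLinearMap (π x)
      rw [hσ, sub_mul, one_mul, map_sub, map_mul,
        show π e = 0 from by show e ∈ RingHom.ker (algebraMap (R ⊗[A] B') C); rw [hker]; exact Ideal.mem_span_singleton_self e,
        zero_mul, sub_zero]
  let _ : Module A (Omega R C) := Module.compHom _ (algebraMap A C)
  have : IsScalarTower A C (Omega R C) := IsScalarTower.of_algebraMap_smul fun _ _ => rfl
  have : IsScalarTower A R (Omega R C) := IsScalarTower.of_algebraMap_smul fun a x => by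
    show algebraMap R C (algebraMap A R a) • x = algebraMap A C a • x
    rw [← IsScalarTower.algebraMap_apply]
  have : Module.Flat R (Omega R C) := Module.Flat.of_linearEquiv (omegaEquiv R C)
  have : Module.Flat A (Omega R C) := Module.Flat.trans A R _
  exact Module.Flat.of_linearEquiv ((LinearEquiv.ofBijective Ψ hΨ).restrictScalars A)

/-- A prime of a flat `R`-algebra dominated by a flat one. -/
theorem flat_of_flat_local (R C C' : Type u) [CommRing R] [CommRing C] [CommRing C'] [IsLocalRing C]
    [IsLocalRing C'] [Algebra R C] [Algebra C C'] [Algebra R C'] [IsScalarTower R C C']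
    [Module.Flat C C'] [IsLocalHom (algebraMap C C')] [Module.Flat R C'] : Module.Flat R C := by
  have : Module.FaithfullyFlat C C' := Module.FaithfullyFlat.of_flat_of_isLocalHom
  exact FlatCrit.flat_of_flat_of_faithfullyFlat (R := R) (S := C) (M := C')

theorem exists_flat_point {B : Type u} [CommRing B] [Algebra A B] [Algebra B' B] [IsScalarTower A B' B]
    [Module.Flat A B] [Module.Flat B' B] [Module.Finite A B'] [HenselianLocalRing R]
    (P : Ideal (R ⊗[A] B)) [P.IsPrime]
    (hP : P.comap (algebraMap R (R ⊗[A] B)) = IsLocalRing.maximalIdeal R) :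
    ∃ (Q : Ideal (R ⊗[A] B')) (_ : Q.IsMaximal),
      Q.comap (algebraMap B' (R ⊗[A] B')) = (P.comap (algebraMap B (R ⊗[A] B))).comap (algebraMap B' B) ∧
      Module.Flat R (Localization.AtPrime Q) := by
  let θ : (R ⊗[A] B') →ₐ[R] (R ⊗[A] B) := Algebra.TensorProduct.map (AlgHom.id R R) (IsScalarTower.toAlgHom A B' B)
  let Q := P.comap θ.toRingHom
  have hθflat : θ.toRingHom.Flat := by
    let _ : Algebra (R ⊗[A] B') (R ⊗[A] B) := θ.toRingHom.toAlgebra
    have : IsScalarTower R (R ⊗[A] B') (R ⊗[A] B) := .of_algebraMap_eq fun r => (θ.commutes r).symm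
    let E : (R ⊗[A] B') ⊗[B'] B →ₐ[(R ⊗[A] B')] (R ⊗[A] B) :=
      letI : Algebra B' (R ⊗[A] B) := ((algebraMap B (R ⊗[A] B)).comp (algebraMap B' B)).toAlgebra
      haveI : IsScalarTower B' (R ⊗[A] B') (R ⊗[A] B) := .of_algebraMap_eq fun b => by
        show algebraMap B (R ⊗[A] B) (algebraMap B' B b) = θ (1 ⊗ₜ b)
        simp [θ]; rfl
      haveI : IsScalarTower B' B (R ⊗[A] B) := .of_algebraMap_eq' rfl
      Algebra.TensorProduct.lift (Algebra.ofId (R ⊗[A] B') (R ⊗[A] B)) (IsScalarTower.toAlgHom B' B (R ⊗[A] B)) fun _ _ => Commute.all _ _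
    let F₀ : B →ₐ[A] (R ⊗[A] B') ⊗[B'] B := ((Algebra.TensorProduct.includeRight : B →ₐ[B'] (R ⊗[A] B') ⊗[B'] B).restrictScalars A)
    let F : (R ⊗[A] B) →ₐ[R] (R ⊗[A] B') ⊗[B'] B :=
      Algebra.TensorProduct.lift (Algebra.ofId R _) F₀ fun _ _ => Commute.all _ _
    have hEF : E.toRingHom.comp F.toRingHom = RingHom.id (R ⊗[A] B) := by
      refine RingHom.ext fun z => ?_
      induction z using TensorProduct.induction_on with
      | zero => simp
      | add x y hx hy => simp only [map_add, hx, hy]
      | tmul a b =>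
        simp [E, F, F₀, θ]
        show θ (a ⊗ₜ[A] 1) * (1 ⊗ₜ[A] b) = a ⊗ₜ[A] b
        simp [θ]
    have hFE : F.toRingHom.comp E.toRingHom = RingHom.id ((R ⊗[A] B') ⊗[B'] B) := by
      refine RingHom.ext fun z => ?_
      induction z with
      | zero => simp
      | add x y hx hy => simp only [map_add, hx, hy]
      | tmul t b =>
        induction t using TensorProduct.induction_on with
        | zero => simp
        | add x y hx hy => simp only [add_tmul, map_add, hx, hy]
        | tmul a c =>
          show F (θ (a ⊗ₜ[A] c) * (1 ⊗ₜ[A] b)) = (a ⊗ₜ[A] c) ⊗ₜ[B'] b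
          simp [θ, F, F₀]
          rw [← Algebra.smul_def c b, tmul_smul, smul_tmul', Algebra.smul_def, algebraMap_right]
          simp
    show (algebraMap (R ⊗[A] B') (R ⊗[A] B)).Flat
    rw [RingHom.flat_algebraMap_iff]
    exact Module.Flat.of_linearEquiv (LinearEquiv.ofBijective E.toLinearMap
      ⟨Function.LeftInverse.injective (RingHom.congr_fun hFE),
        Function.RightInverse.surjective (RingHom.congr_fun hEF)⟩).symm
  have hQ : Q.comap (algebraMap R (R ⊗[A] B')) = IsLocalRing.maximalIdeal R := by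
    rw [Ideal.comap_comap, ← hP]
    congr 1
    exact θ.comp_algebraMap
  have : Q.IsMaximal := by
    have : Algebra.IsIntegral R (R ⊗[A] B') := Algebra.IsIntegral.of_finite R (R ⊗[A] B')
    exact Ideal.isMaximal_of_isIntegral_of_isMaximal_comap Q (by rw [hQ]; infer_instance)
  refine ⟨Q, this, ?_, ?_⟩
  · rw [Ideal.comap_comap, Ideal.comap_comap]
    congr 1
  · let C := Localization.AtPrime Q
    let C' := Localization.AtPrime P
    let ℓ : C →+* C' := Localization.localRingHom Q P θ.toRingHom rfl
    let _ : Algebra C C' := ℓ.toAlgebra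
    have : IsScalarTower R C C' := .of_algebraMap_eq fun r => by
      show _ = ℓ (algebraMap (R ⊗[A] B') C (algebraMap R (R ⊗[A] B') r))
      rw [Localization.localRingHom_to_map,
        show θ.toRingHom (algebraMap R (R ⊗[A] B') r) = algebraMap R (R ⊗[A] B) r from θ.commutes r,
        ← IsScalarTower.algebraMap_apply]
    have : Module.Flat C C' := RingHom.Flat.localRingHom hθflat ..
    have : IsLocalHom (algebraMap C C') := inferInstanceAs (IsLocalHom ℓ)
    have : Module.Flat (R ⊗[A] B) C' := IsLocalization.flat _ P.primeCompl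
    have : Module.Flat R C' := Module.Flat.trans R (R ⊗[A] B) C'
    exact flat_of_flat_local R C C'

theorem exists_smul_eq_zero_of_tmul_eq_zero {C : Type u} [CommRing C] [Algebra B' C] [Module.Flat B' C]
    (m : Ideal C) [m.IsPrime] {N : Type u} [AddCommGroup N] [Module B' N] (w : N)
    (h : (1 : C) ⊗ₜ[B'] w = 0) : ∃ s, algebraMap B' C s ∉ m ∧ s • w = 0 := by
  by_contra hne
  let I : Ideal B' := LinearMap.ker (LinearMap.toSpanSingleton B' N w)
  have hI : I ≤ m.comap (algebraMap B' C) := fun s hs => by
    by_contra hc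
    exact hne ⟨s, hc, hs⟩
  let ι : (B' ⧸ I) →ₗ[B'] N := I.liftQ (LinearMap.toSpanSingleton B' N w) le_rfl
  have hι : Function.Injective ι :=
    LinearMap.ker_eq_bot.1 (Submodule.ker_liftQ_eq_bot _ _ _ le_rfl)
  have h1 : (1 : C) ⊗ₜ[B'] (Ideal.Quotient.mk I 1) = 0 := by
    refine Module.Flat.lTensor_preserves_injective_linearMap (M := C) ι hι ?_
    rw [map_zero, LinearMap.lTensor_tmul]
    show (1 : C) ⊗ₜ[B'] ((1 : B') • w) = 0
    rw [one_smul, h]
  let k := C ⧸ m
  let g : (B' ⧸ I) →ₗ[B'] k := I.liftQ (Algebra.linearMap B' k) fun s hs => by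
    rw [LinearMap.mem_ker, Algebra.linearMap_apply, IsScalarTower.algebraMap_apply B' C k]
    exact Ideal.Quotient.eq_zero_iff_mem.2 (hI hs)
  have h2 := congrArg ((TensorProduct.lift ((LinearMap.mul B' k).comp
    (IsScalarTower.toAlgHom B' C k).toLinearMap)).comp (g.lTensor C)) h1
  have h3 : g 1 = 1 := map_one (algebraMap B' k)
  rw [map_zero] at h2
  have : (1 : k) = 0 := by
    simpa [h3] using h2
  exact one_ne_zero this

/-- A point over `M` in the completion. -/
theorem exists_prime_over {B : Type u} [CommRing B] [Algebra A B] [IsNoetherianRing A] (M : Ideal B) [M.IsPrime] :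
    let Ap := Localization.AtPrime (M.comap (algebraMap A B))
    ∃ (P : Ideal (AdicCompletion (IsLocalRing.maximalIdeal Ap) Ap ⊗[A] B)) (_ : P.IsPrime),
      P.comap (algebraMap B _) = M ∧ P.comap (algebraMap (AdicCompletion (IsLocalRing.maximalIdeal Ap) Ap) _) =
        IsLocalRing.maximalIdeal _ := by
  intro Ap
  let Ah := AdicCompletion (IsLocalRing.maximalIdeal Ap) Ap
  let p := M.comap (algebraMap A B)
  let ev : Ah →ₐ[A] p.ResidueField := (AdicCompletion.evalOneₐ (IsLocalRing.maximalIdeal Ap)).restrictScalars A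
  have hev : Function.Surjective ev := AdicCompletion.evalOneₐ_surjective _
  let g : p.ResidueField →ₐ[A] M.ResidueField := Ideal.ResidueField.mapₐ p M (Algebra.ofId A B) rfl
  let φ : Ah ⊗[A] B →ₐ[A] M.ResidueField := Algebra.TensorProduct.lift (g.comp ev)
    (IsScalarTower.toAlgHom A B M.ResidueField) fun _ _ => Commute.all _ _
  refine ⟨RingHom.ker φ.toRingHom, RingHom.ker_isPrime _, ?_, ?_⟩
  · ext b
    rw [Ideal.mem_comap, RingHom.mem_ker, algebraMap_right]
    show φ ((1 : Ah) ⊗ₜ[A] b) = 0 ↔ _
    rw [Algebra.TensorProduct.lift_tmul, map_one, one_mul]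
    exact Ideal.algebraMap_residueField_eq_zero
  · have : (RingHom.ker ev.toRingHom).IsMaximal := RingHom.ker_isMaximal_of_surjective _ hev
    rw [← IsLocalRing.eq_maximalIdeal this]
    ext x
    rw [Ideal.mem_comap, RingHom.mem_ker, RingHom.mem_ker, Algebra.TensorProduct.algebraMap_apply]
    show φ (x ⊗ₜ[A] (1 : B)) = 0 ↔ ev x = 0
    rw [Algebra.TensorProduct.lift_tmul, map_one, mul_one]
    exact map_eq_zero g

theorem henselianLocalRing_completion (R : Type u) [CommRing R] [IsNoetherianRing R] [IsLocalRing R] :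
    HenselianLocalRing (AdicCompletion (IsLocalRing.maximalIdeal R) R) :=
  HenselLib.henselianLocalRing_of_henselianRing _

theorem flat_omega (A B B' : Type u) [CommRing A] [CommRing B] [CommRing B'] [IsNoetherianRing A]
    [Algebra A B] [Module.Flat A B] [Algebra A B'] [Algebra B' B] [IsScalarTower A B' B]
    [Module.Finite A B'] [Module.Flat B' B] : Module.Flat A (B ⊗[B'] Omega A B') := by
  rw [Module.Flat.iff_lTensor_injective']
  intro J
  rw [injective_iff_map_eq_zero]
  let N := Omega A B' ⊗[A] J
  let f : N →ₗ[B'] Omega A B' ⊗[A] A := AlgebraTensorModule.lTensor B' _ J.subtype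
  let a₁ := AlgebraTensorModule.assoc A B' B B (Omega A B') J
  let a₂ := AlgebraTensorModule.assoc A B' B B (Omega A B') A
  have hcomm : ∀ z, a₂ (J.subtype.lTensor _ z) = f.lTensor B (a₁ z) := fun z => by
    induction z with
    | zero => simp
    | add x y hx hy => simp [hx, hy]
    | tmul x j =>
      induction x with
      | zero => simp
      | add x y hx hy => simp only [add_tmul, map_add, hx, hy]
      | tmul b φ => rfl
  intro z hz
  have h0 : f.lTensor B (a₁ z) = 0 := by rw [← hcomm, hz, map_zero]
  obtain ⟨y, hy⟩ := (Module.Flat.lTensor_exact B (f := (LinearMap.ker f).subtype) (g := f)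
    (LinearMap.exact_subtype_ker_map f) _).1 h0
  suffices y = 0 from a₁.injective (by rw [← hy, this, map_zero, map_zero])
  clear hy h0 hz z
  induction y with
  | zero => rfl
  | add x y hx hy => rw [hx, hy, add_zero]
  | tmul b w =>
    obtain ⟨w, hw⟩ := w
    by_contra hbw
    let ann : Ideal B := LinearMap.ker (LinearMap.toSpanSingleton B (B ⊗[B'] LinearMap.ker f) (b ⊗ₜ ⟨w, hw⟩))
    obtain ⟨M, hM, hannM⟩ := Ideal.exists_le_maximal ann fun h => hbw (by
      simpa [ann] using (Ideal.eq_top_iff_one _).1 h)
    let p := M.comap (algebraMap A B)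
    let Ap := Localization.AtPrime p
    let Ah := AdicCompletion (IsLocalRing.maximalIdeal Ap) Ap
    have : HenselianLocalRing Ah := henselianLocalRing_completion Ap
    have : Module.Flat A Ah := Module.Flat.trans A Ap Ah
    obtain ⟨P, hPp, hPB, hPR⟩ := exists_prime_over (A := A) (B := B) M
    obtain ⟨Q, hQ, hQq, hQf⟩ := exists_flat_point (A := A) (B' := B') (R := Ah) P hPR
    let C := Localization.AtPrime Q
    have : Module.Flat A (C ⊗[B'] Omega A B') := flat_tensor_omega Q
    have : Module.Flat B' (Ah ⊗[A] B') := flat_right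
    have : Module.Flat (Ah ⊗[A] B') C := IsLocalization.flat C Q.primeCompl
    have : Module.Flat B' C := Module.Flat.trans B' (Ah ⊗[A] B') C
    let c₁ := AlgebraTensorModule.assoc A B' C C (Omega A B') J
    have h1 : (1 : C) ⊗ₜ[B'] w = 0 := by
      have hinj := Module.Flat.lTensor_preserves_injective_linearMap (M := C ⊗[B'] Omega A B') J.subtype
        J.subtype_injective
      have hcomm' : ∀ z, AlgebraTensorModule.assoc A B' C C (Omega A B') A (J.subtype.lTensor _ z) =
          f.lTensor C (c₁ z) := fun z => by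
        induction z with
        | zero => simp
        | add x y hx hy => simp [hx, hy]
        | tmul x j =>
          induction x with
          | zero => simp
          | add x y hx hy => simp only [add_tmul, map_add, hx, hy]
          | tmul b φ => rfl
      have : c₁.symm ((1 : C) ⊗ₜ w) = 0 := hinj (by
        apply (AlgebraTensorModule.assoc A B' C C (Omega A B') A).injective
        rw [map_zero, hcomm', LinearEquiv.apply_symm_apply, LinearMap.lTensor_tmul,
          LinearMap.mem_ker.1 hw, tmul_zero, map_zero])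
      simpa using congrArg c₁ this
    obtain ⟨s, hs, hsw⟩ := exists_smul_eq_zero_of_tmul_eq_zero (IsLocalRing.maximalIdeal C) w h1
    have hsM : algebraMap B' B s ∈ M := hannM (by
      show algebraMap B' B s • (b ⊗ₜ[B'] (⟨w, hw⟩ : LinearMap.ker f)) = 0
      rw [algebraMap_smul, smul_tmul', smul_tmul, show s • (⟨w, hw⟩ : LinearMap.ker f) = 0 from
        Subtype.ext hsw, tmul_zero])
    refine hs ?_
    rw [IsScalarTower.algebraMap_apply B' (Ah ⊗[A] B') C,
      IsLocalization.AtPrime.to_map_mem_maximal_iff C Q]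
    show s ∈ Q.comap (algebraMap B' (Ah ⊗[A] B'))
    rw [hQq, hPB]
    exact hsM

end Groth.Agent.Disc12
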