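import Groth.Agent.Disc12.RelCI
import Groth.Prelude.Def_RegImm

/-! Square presentations of flat quasi-finite local complete intersection algebras. -/

universe u

set_option autoImplicit false
set_option backward.isDefEq.respectTransparency false

open MvPolynomial TensorProduct

namespace Groth.Agent.Disc12

/-- Adding generators and rescaling keeps a presentation square. -/
theorem exists_presentation_extend {k S : Type u} [Field k] [CommRing S] [Algebra k S] {n : ℕ} (m : ℕ)
    (φ : MvPolynomial (Fin n) k →ₐ[k] S) (hφ : Function.Surjective φ) (r : Fin n → MvPolynomial (Fin n) k)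
    (hr : RingHom.ker φ.toRingHom = Ideal.span (Set.range r)) (c : Fin n → k) (hc : ∀ i, c i ≠ 0)
    (w : Fin m → S) :
    ∃ R : Fin (n + m) → MvPolynomial (Fin (n + m)) k,
      Function.Surjective (aeval (R := k) (Fin.append (fun i => c i • φ (X i)) w)) ∧
      RingHom.ker (aeval (R := k) (Fin.append (fun i => c i • φ (X i)) w)).toRingHom =
        Ideal.span (Set.range R) := by
  choose h hh using fun j => hφ (w j)
  let Φ : MvPolynomial (Fin (n + m)) k →ₐ[k] S := aeval (Fin.append (fun i => c i • φ (X i)) w)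
  let σ : MvPolynomial (Fin n) k →ₐ[k] MvPolynomial (Fin (n + m)) k :=
    aeval fun i => (c i)⁻¹ • X (Fin.castAdd m i)
  let τ : MvPolynomial (Fin (n + m)) k →ₐ[k] MvPolynomial (Fin n) k :=
    aeval (Fin.append (fun i => c i • X i) h)
  have hΦσ : Φ.comp σ = φ := by
    refine MvPolynomial.algHom_ext fun i => ?_
    simp [Φ, σ, smul_smul, inv_mul_cancel₀ (hc i)]
  have hφτ : φ.comp τ = Φ := by
    refine MvPolynomial.algHom_ext fun j => ?_
    induction j using Fin.addCases with
    | left i => simp [Φ, τ]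
    | right j => simp [Φ, τ, hh]
  let R : Fin (n + m) → MvPolynomial (Fin (n + m)) k :=
    Fin.append (fun i => σ (r i)) (fun j => X (Fin.natAdd n j) - σ (h j))
  refine ⟨R, fun s => ?_, le_antisymm (fun p hp => ?_) (Ideal.span_le.2 ?_)⟩
  · obtain ⟨p, rfl⟩ := hφ s
    exact ⟨σ p, AlgHom.congr_fun hΦσ p⟩
  · have hdiff : ∀ p, p - σ (τ p) ∈ Ideal.span (Set.range R) := by
      intro p
      induction p using MvPolynomial.induction_on with
      | C a => simp [σ, τ, MvPolynomial.algebraMap_eq]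
      | add p q hp hq =>
        rw [map_add, map_add, show p + q - (σ (τ p) + σ (τ q)) = (p - σ (τ p)) + (q - σ (τ q)) by ring]
        exact add_mem hp hq
      | mul_X p i hp =>
        rw [map_mul, map_mul, show p * X i - σ (τ p) * σ (τ (X i)) =
          X i * (p - σ (τ p)) + σ (τ p) * (X i - σ (τ (X i))) by ring]
        refine add_mem (Ideal.mul_mem_left _ _ hp) (Ideal.mul_mem_left _ _ ?_)
        induction i using Fin.addCases with
        | left i =>
          rw [show (X (Fin.castAdd m i) : MvPolynomial (Fin (n + m)) k) - σ (τ (X (Fin.castAdd m i))) = 0 by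
            simp [σ, τ, smul_smul, mul_inv_cancel₀ (hc i)]]
          exact zero_mem _
        | right j =>
          refine Ideal.subset_span ⟨Fin.natAdd n j, ?_⟩
          simp [R, τ]
    have h1 : τ p ∈ Ideal.span (Set.range r) := by
      rw [← hr]
      exact (AlgHom.congr_fun hφτ p).trans hp
    have h2 : σ (τ p) ∈ Ideal.span (Set.range R) := by
      have hle : Ideal.span (Set.range r) ≤ (Ideal.span (Set.range R)).comap σ := Ideal.span_le.2 (by
        rintro _ ⟨i, rfl⟩
        exact Ideal.subset_span ⟨Fin.castAdd m i, by simp [R]⟩)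
      exact hle h1
    have := add_mem (hdiff p) h2
    rwa [sub_add_cancel] at this
  · rintro _ ⟨j, rfl⟩
    show Φ (R j) = 0
    induction j using Fin.addCases with
    | left i =>
      simp only [R, Fin.append_left]
      refine (AlgHom.congr_fun hΦσ (r i)).trans ?_
      exact (hr.ge (Ideal.subset_span ⟨i, rfl⟩) :)
    | right j =>
      simp only [R, Fin.append_right, map_sub]
      rw [show Φ (σ (h j)) = w j from (AlgHom.congr_fun hΦσ (h j)).trans (hh j)]
      simp [Φ]

variable {A B : Type u} [CommRing A] [CommRing B] [Algebra A B]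

theorem exists_fiber_smul_eq (p : Ideal A) [p.IsPrime] (c : p.Fiber B) :
    ∃ s ∉ p, ∃ b : B, algebraMap A (p.Fiber B) s * c = (1 : p.ResidueField) ⊗ₜ b := by
  induction c using TensorProduct.induction_on with
  | zero => exact ⟨1, fun h => Ideal.IsPrime.one_notMem inferInstance h, 0, by simp⟩
  | tmul κ b =>
    obtain ⟨⟨x, s, hs⟩, e⟩ := IsLocalization.surj (nonZeroDivisors (A ⧸ p)) κ
    obtain ⟨a, rfl⟩ := Ideal.Quotient.mk_surjective x
    obtain ⟨s, rfl⟩ := Ideal.Quotient.mk_surjective s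
    refine ⟨s, fun h => nonZeroDivisors.ne_zero hs (Ideal.Quotient.eq_zero_iff_mem.2 h), a • b, ?_⟩
    rw [Algebra.TensorProduct.algebraMap_apply, Algebra.TensorProduct.tmul_mul_tmul, one_mul, mul_comm]
    have e' : κ * algebraMap A p.ResidueField s = algebraMap A p.ResidueField a := e
    rw [e', Algebra.algebraMap_eq_smul_one, TensorProduct.smul_tmul]
  | add c d hc hd =>
    obtain ⟨s, hs, b, hb⟩ := hc
    obtain ⟨t, ht, b', hb'⟩ := hd
    refine ⟨s * t, p.primeCompl.mul_mem hs ht, t • b + s • b', ?_⟩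
    have key : ∀ (r : A) (y : B), algebraMap A (p.Fiber B) r * ((1 : p.ResidueField) ⊗ₜ y) =
        (1 : p.ResidueField) ⊗ₜ (r • y) := fun r y => by
      rw [← Algebra.smul_def, TensorProduct.tmul_smul]
    rw [map_mul, mul_add, TensorProduct.tmul_add, ← key, ← key, ← hb, ← hb']
    ring

theorem exists_smul_mem_map_of_fiber_eq_zero (p : Ideal A) [p.IsPrime] (b : B)
    (hb : (1 : p.ResidueField) ⊗ₜ[A] b = 0) : ∃ s ∉ p, s • b ∈ p.map (algebraMap A B) := by
  have e : (algebraMap (A ⧸ p) p.ResidueField) 1 = 1 := map_one _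
  let θ : (A ⧸ p) ⊗[A] B →ₗ[A] p.ResidueField ⊗[A] B :=
    LinearMap.rTensor B (IsScalarTower.toAlgHom A (A ⧸ p) p.ResidueField).toLinearMap
  haveI : IsLocalizedModule (p.primeCompl) (IsScalarTower.toAlgHom A (A ⧸ p) p.ResidueField).toLinearMap := by
    refine { map_units := fun s => ?_, surj := fun κ => ?_, exists_of_eq := fun {x y} h => ?_ }
    · have hne : algebraMap A p.ResidueField s.1 ≠ 0 := fun h => s.2 (Ideal.algebraMap_residueField_eq_zero.1 h)
      refine (Module.End.isUnit_iff _).2 ⟨fun x y h => ?_, fun y => ⟨(algebraMap A p.ResidueField s.1)⁻¹ * y, ?_⟩⟩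
      · simp only [Module.algebraMap_end_apply, Algebra.smul_def] at h
        exact mul_left_cancel₀ hne h
      · rw [Module.algebraMap_end_apply, Algebra.smul_def, ← mul_assoc, mul_inv_cancel₀ hne, one_mul]
    · obtain ⟨⟨x, s, hs⟩, e⟩ := IsLocalization.surj (nonZeroDivisors (A ⧸ p)) κ
      obtain ⟨s, rfl⟩ := Ideal.Quotient.mk_surjective s
      refine ⟨⟨x, s, fun h => nonZeroDivisors.ne_zero hs (Ideal.Quotient.eq_zero_iff_mem.2 h)⟩, ?_⟩
      rw [Submonoid.smul_def, Algebra.smul_def, mul_comm]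
      exact e
    · exact ⟨1, by rw [show x = y from IsFractionRing.injective (A ⧸ p) p.ResidueField h]⟩
  haveI : IsLocalizedModule (p.primeCompl) θ := IsLocalizedModule.rTensor _ _ _
  have h0 : θ ((1 : A ⧸ p) ⊗ₜ b) = θ 0 := by
    rw [map_zero]
    show (IsScalarTower.toAlgHom A (A ⧸ p) p.ResidueField 1) ⊗ₜ[A] b = 0
    rw [map_one]; exact hb
  obtain ⟨⟨s, hs⟩, hsb⟩ := IsLocalizedModule.exists_of_eq (S := p.primeCompl) h0
  refine ⟨s, hs, ?_⟩
  have h1 : (1 : A ⧸ p) ⊗ₜ[A] (s • b) = 0 := by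
    rw [Submonoid.smul_def, Submonoid.smul_def, smul_zero] at hsb
    rw [TensorProduct.tmul_smul]
    exact hsb
  have h2 := congrArg (TensorProduct.quotTensorEquivQuotSMul B p) h1
  rw [map_zero, show (1 : A ⧸ p) = Ideal.Quotient.mk p 1 from rfl, TensorProduct.quotTensorEquivQuotSMul_mk_tmul,
    one_smul, Submodule.Quotient.mk_eq_zero, Ideal.smul_top_eq_map] at h2
  exact h2

theorem exists_prime_fiber (q : Ideal B) [q.IsPrime] :
    ∃ qb : Ideal ((q.under A).Fiber B), qb.IsPrime ∧ ∀ b, (1 : (q.under A).ResidueField) ⊗ₜ[A] b ∈ qb ↔ b ∈ q := by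
  let θ : (q.under A).Fiber B →ₐ[A] q.ResidueField :=
    Algebra.TensorProduct.lift (Ideal.ResidueField.mapₐ (q.under A) q (Algebra.ofId A B) rfl)
      (IsScalarTower.toAlgHom A B q.ResidueField) fun _ _ => Commute.all _ _
  refine ⟨RingHom.ker θ, RingHom.ker_isPrime θ, fun b => ?_⟩
  rw [RingHom.mem_ker, Algebra.TensorProduct.lift_tmul, map_one, one_mul, IsScalarTower.toAlgHom_apply,
    ← RingHom.mem_ker, Ideal.ker_algebraMap_residueField]

/-- A fibre of a quasi-finite lci algebra is locally a square complete intersection. -/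
theorem exists_fibre_presentation [Algebra.QuasiFinite A B] (p : Ideal A) [p.IsPrime]
    (hlci : Synt.IsLCIOver p.ResidueField (p.Fiber B)) (qb : Ideal (p.Fiber B)) [qb.IsPrime] :
    ∃ g ∉ qb, ∃ (n : ℕ) (φ : MvPolynomial (Fin n) p.ResidueField →ₐ[p.ResidueField] Localization.Away g)
      (r : Fin n → MvPolynomial (Fin n) p.ResidueField),
      Function.Surjective φ ∧ RingHom.ker φ.toRingHom = Ideal.span (Set.range r) := by
  obtain ⟨g, hg, hgci⟩ := hlci.2 ⟨qb, inferInstance⟩
  have hg' : g ∉ qb := hg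
  have hnt : Nontrivial (Localization.Away g) := by
    refine not_subsingleton_iff_nontrivial.1 fun hs => ?_
    obtain ⟨k, hk⟩ := (IsLocalization.subsingleton_iff (M := Submonoid.powers g) (S := Localization.Away g)).1 hs
    exact hg' (Ideal.IsPrime.mem_of_pow_mem inferInstance k (by rw [show g ^ k = 0 from hk]; exact zero_mem _))
  rcases hgci with h | ⟨n, c, hcn, φ, r, hφ, hr, hdim⟩
  · exact absurd h (not_subsingleton_iff_nontrivial.2 hnt)
  haveI : IsArtinianRing (p.Fiber B) := IsArtinianRing.of_finite p.ResidueField _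
  haveI : IsArtinianRing (Localization.Away g) :=
    (IsArtinianRing.localization_surjective (Submonoid.powers g) (Localization.Away g)).isArtinianRing
  rw [ringKrullDimZero_iff_ringKrullDim_eq_zero.1 inferInstance] at hdim
  have hnc : c = n := by
    have : (n - c : ℕ) = 0 := by exact_mod_cast hdim.symm
    omega
  subst hnc
  exact ⟨g, hg, c, φ, r, hφ, hr⟩

theorem map_mul_sub_mem {ι : Type*} [Fintype ι] [DecidableEq ι] {P : Type u} [CommRing P] (Q : Ideal P) [Q.IsPrime]
    (t : ι → P) (M : Matrix ι ι P) (hM : ∀ i j, M i j ∈ Q) (ht : ∀ i, t i ∉ Q) :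
    (Matrix.diagonal t - M).det ∉ Q := by
  intro h
  have h1 : Ideal.Quotient.mk Q (Matrix.diagonal t - M).det = ∏ i, Ideal.Quotient.mk Q (t i) := by
    rw [RingHom.map_det, show (Ideal.Quotient.mk Q).mapMatrix (Matrix.diagonal t - M) =
      Matrix.diagonal fun i => Ideal.Quotient.mk Q (t i) from ?_, Matrix.det_diagonal]
    refine Matrix.ext fun i j => ?_
    rw [RingHom.mapMatrix_apply, Matrix.map_apply, Matrix.sub_apply, map_sub,
      Ideal.Quotient.eq_zero_iff_mem.2 (hM i j), sub_zero, Matrix.diagonal_apply, Matrix.diagonal_apply]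
    split <;> simp
  rw [Ideal.Quotient.eq_zero_iff_mem.2 h, eq_comm, Finset.prod_eq_zero_iff] at h1
  obtain ⟨i, -, hi⟩ := h1
  exact ht i (Ideal.Quotient.eq_zero_iff_mem.1 hi)

/-- Nakayama without localisation. -/
theorem exists_smul_mem_of_le {P : Type u} [CommRing P] (Q : Ideal P) [Q.IsPrime] (I J pI : Ideal P)
    (hI : I.FG) (hp : pI ≤ Q) (h : ∀ x ∈ I, ∃ t ∉ Q, t * x ∈ J ⊔ pI * I) :
    ∃ G ∉ Q, ∀ x ∈ I, G * x ∈ J := by
  classical
  obtain ⟨s, hs⟩ := hI
  have hsI : ∀ x : {x // x ∈ s}, x.1 ∈ I := fun x => hs ▸ Ideal.subset_span x.2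
  choose t ht htx using fun x : {x // x ∈ s} => h x.1 (hsI x)
  have hd : ∀ x : {x // x ∈ s}, ∃ π : {x // x ∈ s} → P, (∀ y, π y ∈ Q) ∧ t x * x.1 - ∑ y, π y * y.1 ∈ J := by
    intro x
    obtain ⟨j, hj, z, hz, hjz⟩ := Submodule.mem_sup.1 (htx x)
    suffices ∀ z ∈ pI * I, ∃ π : {x // x ∈ s} → P, (∀ y, π y ∈ Q) ∧ z = ∑ y, π y * y.1 by
      obtain ⟨π, hπ, rfl⟩ := this z hz
      exact ⟨π, hπ, by rw [← hjz, add_sub_cancel_right]; exact hj⟩
    intro z hz
    induction hz using Submodule.mul_induction_on' with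
    | mem_mul_mem a ha b hb =>
      rw [← hs, show (s : Set P) = Set.range (fun x : {x // x ∈ s} => x.1) by ext y; simp] at hb
      obtain ⟨c, hc⟩ := Ideal.mem_span_range_iff_exists_fun.1 hb
      exact ⟨fun y => a * c y, fun y => Ideal.mul_mem_right _ _ (hp ha), by rw [← hc, Finset.mul_sum]; simp [mul_assoc]⟩
    | add a _ b _ ha hb =>
      obtain ⟨π, hπ, rfl⟩ := ha
      obtain ⟨ρ, hρ, rfl⟩ := hb
      exact ⟨π + ρ, fun y => add_mem (hπ y) (hρ y), by simp [add_mul, Finset.sum_add_distrib]⟩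
  choose π hπ hπx using hd
  let T : Matrix {x // x ∈ s} {x // x ∈ s} P := Matrix.diagonal t - Matrix.of π
  refine ⟨T.det, map_mul_sub_mem Q t (Matrix.of π) hπ ht, fun x hx => ?_⟩
  have hgen : ∀ y : {x // x ∈ s}, T.det * y.1 ∈ J := by
    intro y
    have h1 : ∀ i, (T.mulVec fun z => z.1) i ∈ J := fun i => by
      simp only [T, Matrix.sub_mulVec, Pi.sub_apply, Matrix.mulVec_diagonal]
      exact hπx i
    have h2 : T.det * y.1 = ∑ i, T.adjugate y i * (T.mulVec fun z => z.1) i := by
      have := congrFun (congrArg (fun M => Matrix.mulVec M fun z : {x // x ∈ s} => z.1) T.adjugate_mul) y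
      simp only [← Matrix.mulVec_mulVec, Matrix.smul_mulVec, Matrix.one_mulVec] at this
      simpa [Matrix.mulVec, dotProduct] using this.symm
    rw [h2]
    exact Ideal.sum_mem _ fun i _ => Ideal.mul_mem_left _ _ (h1 i)
  have hle : I ≤ Submodule.comap (LinearMap.mulLeft P T.det) J := by
    rw [← hs, Ideal.span, Submodule.span_le]
    exact fun y hy => hgen ⟨y, hy⟩
  exact hle hx

/-- Over a flat algebra, an element of the kernel in `pP` lies in `p` times the kernel. -/
theorem mem_mul_of_flat {P : Type u} [CommRing P] [Algebra A P] [Module.Flat A B] (Θ : P →ₐ[A] B)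
    (hΘ : Function.Surjective Θ) (p : Ideal A) {x : P} (hx : x ∈ p.map (algebraMap A P)) (hx0 : Θ x = 0) :
    x ∈ p.map (algebraMap A P) * RingHom.ker Θ := by
  rw [Ideal.map, Ideal.span, Submodule.mem_span_image_iff_exists_fun] at hx
  obtain ⟨t, ht, c, hc⟩ := hx
  have hrel : ∑ i : t, (i : A) • Θ (c i) = 0 := by
    rw [← hx0, ← hc, map_sum]
    exact Finset.sum_congr rfl fun i _ => by
      rw [smul_eq_mul, map_mul, AlgHom.commutes, Algebra.smul_def, mul_comm]
  obtain ⟨k, a, y, hy, ha⟩ := Module.Flat.isTrivialRelation_of_sum_smul_eq_zero (R := A) (M := B) (f := fun i : t => (i : A)) (x := fun i => Θ (c i)) hrel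
  choose Y hY using fun j => hΘ (y j)
  let e : t → P := fun i => c i - ∑ j, a i j • Y j
  have he : ∀ i, e i ∈ RingHom.ker Θ := fun i => by
    rw [RingHom.mem_ker, map_sub, map_sum, show Θ (c i) = ∑ j, a i j • y j from hy i]
    simp [hY]
  have hxe : x = ∑ i : t, algebraMap A P (i : A) * e i := by
    have h0 : ∑ i : t, algebraMap A P (i : A) * ∑ j, a i j • Y j = 0 := by
      simp only [Finset.mul_sum, Algebra.smul_def, ← mul_assoc, ← map_mul]
      rw [Finset.sum_comm]
      refine Finset.sum_eq_zero fun j _ => ?_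
      rw [← Finset.sum_mul, ← map_sum, ha j, map_zero, zero_mul]
    simp only [e, mul_sub, Finset.sum_sub_distrib, h0, sub_zero, ← hc, smul_eq_mul, mul_comm]
  rw [hxe]
  exact Ideal.sum_mem _ fun i _ => Ideal.mul_mem_mul (Ideal.mem_map_of_mem _ (ht i.2)) (he i)

theorem exists_scalar_lift {n : ℕ} (p : Ideal A) [p.IsPrime] {ι : Type} [Fintype ι]
    (z : ι → MvPolynomial (Fin n) p.ResidueField) :
    ∃ s ∉ p, ∀ i, ∃ b : MvPolynomial (Fin n) A, fibMap n p (C s) * z i = fibMap n p b := by
  classical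
  choose s hs b hb using fun i => exists_scalar_mul_eq_map p (z i)
  refine ⟨∏ i, s i, fun h => ?_, fun i => ⟨C (∏ j ∈ Finset.univ.erase i, s j) * b i, ?_⟩⟩
  · obtain ⟨i, -, hi⟩ := (Ideal.IsPrime.prod_mem_iff (p := p)).1 h
    exact hs i hi
  · rw [map_mul, show fibMap n p (b i) = fibMap n p (C (s i)) * z i from (hb i).symm, ← mul_assoc, ← map_mul, ← C_mul,
      Finset.prod_erase_mul _ _ (Finset.mem_univ i)]

/-- Lifting a square presentation of the fibre. -/
theorem exists_lift_relations {N : ℕ} [Module.Flat A B] [Algebra.FinitePresentation A B]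
    (Θ : MvPolynomial (Fin N) A →ₐ[A] B) (hΘ : Function.Surjective Θ) (p : Ideal A) [p.IsPrime]
    (Q : Ideal (MvPolynomial (Fin N) A)) [Q.IsPrime] (hQ : Q.under A = p)
    {S : Type u} [CommRing S] [Algebra p.ResidueField S] [Algebra A S] [IsScalarTower A p.ResidueField S]
    (ρ : B →ₐ[A] S)
    (hρ : ∀ b, ρ b = 0 → ∃ t ∉ Q, Θ t * b ∈ p.map (algebraMap A B))
    (Φ : MvPolynomial (Fin N) p.ResidueField →ₐ[p.ResidueField] S) (hΦ : ∀ x, Φ (fibMap N p x) = ρ (Θ x))
    (R : Fin N → MvPolynomial (Fin N) p.ResidueField) (hR : RingHom.ker Φ.toRingHom = Ideal.span (Set.range R)) :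
    ∃ (F : Fin N → MvPolynomial (Fin N) A) (G : MvPolynomial (Fin N) A), G ∉ Q ∧
      (∀ i, Θ (F i) = 0) ∧ ∀ x, Θ x = 0 → G * x ∈ Ideal.span (Set.range F) := by
  obtain ⟨s, hs, hb⟩ := exists_scalar_lift p R
  choose R' hR' using hb
  have hCQ : ∀ a ∉ p, (C a : MvPolynomial (Fin N) A) ∉ Q := fun a ha h => ha (hQ ▸ h)
  have hmapB : p.map (algebraMap A B) = (p.map (algebraMap A (MvPolynomial (Fin N) A))).map Θ := by
    rw [← Ideal.map_coe Θ, Ideal.map_map]
    exact congrArg (Ideal.map · p) (RingHom.ext fun a => (Θ.commutes a).symm)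
  have hadj : ∀ i, ∃ t ∉ Q, ∃ F, Θ F = 0 ∧ fibMap N p F = fibMap N p t * fibMap N p (C s) * R i := by
    intro i
    have h0 : ρ (Θ (R' i)) = 0 := by
      rw [← hΦ, ← hR', map_mul, show Φ (R i) = 0 from hR.ge (Ideal.subset_span ⟨i, rfl⟩), mul_zero]
    obtain ⟨t, ht, htb⟩ := hρ _ h0
    rw [hmapB, Ideal.mem_map_iff_of_surjective _ hΘ] at htb
    obtain ⟨π, hπ, hπt⟩ := htb
    refine ⟨t, ht, t * R' i - π, by rw [map_sub, map_mul, hπt, sub_self], ?_⟩
    have hπ0 : fibMap N p π = 0 := by
      have hle : p.map (algebraMap A (MvPolynomial (Fin N) A)) ≤ RingHom.ker (fibMap N p) :=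
        Ideal.map_le_iff_le_comap.2 fun a ha => by
          show fibMap N p (C a) = 0
          rw [fibMap, map_C, Ideal.algebraMap_residueField_eq_zero.2 ha, map_zero]
      exact hle hπ
    rw [map_sub, map_mul, ← hR', hπ0, sub_zero, mul_assoc]
  choose t ht F hF hFR using hadj
  have hFG : (RingHom.ker Θ.toRingHom).FG := Algebra.FinitePresentation.ker_fG_of_surjective Θ hΘ
  have hnak : ∀ x ∈ RingHom.ker Θ.toRingHom, ∃ u ∉ Q,
      u * x ∈ Ideal.span (Set.range F) ⊔ p.map (algebraMap A _) * RingHom.ker Θ.toRingHom := by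
    intro x hx
    have hxR : fibMap N p x ∈ Ideal.span (Set.range R) := by
      rw [← hR]
      show Φ (fibMap N p x) = 0
      rw [hΦ, show Θ x = 0 from hx, map_zero]
    obtain ⟨a, ha⟩ := Ideal.mem_span_range_iff_exists_fun.1 hxR
    obtain ⟨u, hu, hau⟩ := exists_scalar_lift p a
    choose a' ha' using hau
    classical
    let T : MvPolynomial (Fin N) A := ∏ i, t i
    let x' := T * C s * C u * x - ∑ i, (∏ j ∈ Finset.univ.erase i, t j) * a' i * F i
    refine ⟨T * C s * C u, ?_, ?_⟩
    · exact Q.primeCompl.mul_mem (Q.primeCompl.mul_mem (Q.primeCompl.prod_mem fun i _ => ht i) (hCQ s hs))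
        (hCQ u hu)
    have hx'0 : fibMap N p x' = 0 := by
      simp only [x', map_sub, map_mul, map_sum, hFR, ← ha', ← ha, Finset.mul_sum, sub_eq_zero]
      refine Finset.sum_congr rfl fun i _ => ?_
      rw [show fibMap N p T = fibMap N p (∏ j ∈ Finset.univ.erase i, t j) * fibMap N p (t i) by
        rw [← map_mul, Finset.prod_erase_mul _ _ (Finset.mem_univ i)]]
      ring
    have hx'Θ : Θ x' = 0 := by
      simp only [x', map_sub, map_mul, map_sum, hF, show Θ x = 0 from hx, mul_zero, Finset.sum_const_zero, sub_self]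
    have hmem := mem_mul_of_flat Θ hΘ p (fibMap_ker p x' hx'0) hx'Θ
    rw [show T * C s * C u * x = (∑ i, (∏ j ∈ Finset.univ.erase i, t j) * a' i * F i) + x' by simp [x']]
    exact Submodule.add_mem_sup (Ideal.sum_mem _ fun i _ => Ideal.mul_mem_left _ _ (Ideal.subset_span ⟨i, rfl⟩)) hmem
  obtain ⟨G, hG, hGx⟩ := exists_smul_mem_of_le Q (RingHom.ker Θ.toRingHom) (Ideal.span (Set.range F))
    (p.map (algebraMap A _)) hFG (Ideal.map_le_iff_le_comap.2 (hQ ▸ le_rfl)) hnak
  exact ⟨F, G, hG, hF, fun x hx => hGx x hx⟩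

/-- Presentation after inverting one more element. -/
theorem exists_presentation_away {N : ℕ} (Θ : MvPolynomial (Fin N) A →ₐ[A] B) (hΘ : Function.Surjective Θ)
    (F : Fin N → MvPolynomial (Fin N) A) (G : MvPolynomial (Fin N) A) (hF : ∀ i, Θ (F i) = 0)
    (hG : ∀ x, Θ x = 0 → G * x ∈ Ideal.span (Set.range F))
    (S : Type u) [CommRing S] [Algebra A S] [Algebra B S] [IsScalarTower A B S] [IsLocalization.Away (Θ G) S] :
    ∃ (ψ : MvPolynomial (Fin (N + 1)) A →ₐ[A] S) (F' : Fin (N + 1) → MvPolynomial (Fin (N + 1)) A),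
      Function.Surjective ψ ∧ RingHom.ker ψ.toRingHom = Ideal.span (Set.range F') := by
  let ι : MvPolynomial (Fin N) A →ₐ[A] MvPolynomial (Fin (N + 1)) A := rename Fin.castSucc
  let W : MvPolynomial (Fin (N + 1)) A := X (Fin.last N)
  let ψ : MvPolynomial (Fin (N + 1)) A →ₐ[A] S :=
    aeval (Fin.snoc (fun i => algebraMap B S (Θ (X i))) (IsLocalization.Away.invSelf (Θ G)))
  let F' : Fin (N + 1) → MvPolynomial (Fin (N + 1)) A := Fin.snoc (fun i => ι (F i)) (W * ι G - 1)
  have hψι : ∀ x, ψ (ι x) = algebraMap B S (Θ x) := by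
    have h : ψ.comp ι = (IsScalarTower.toAlgHom A B S).comp Θ :=
      MvPolynomial.algHom_ext fun i => by simp [ψ, ι]
    exact fun x => AlgHom.congr_fun h x
  have hWinv : ψ W * algebraMap B S (Θ G) = 1 := by
    simp only [ψ, W, aeval_X, Fin.snoc_last]
    rw [mul_comm]; exact IsLocalization.Away.mul_invSelf (Θ G)
  refine ⟨ψ, F', fun z => ?_, le_antisymm (fun z hz => ?_) (Ideal.span_le.2 ?_)⟩
  · obtain ⟨⟨b, ⟨_, k, rfl⟩⟩, hb⟩ := IsLocalization.surj (Submonoid.powers (Θ G)) z
    obtain ⟨x, rfl⟩ := hΘ b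
    refine ⟨ι x * W ^ k, ?_⟩
    rw [map_mul, map_pow, hψι, ← hb, map_pow, mul_assoc, ← mul_pow, mul_comm (algebraMap B S (Θ G)), hWinv,
      one_pow, mul_one]
  · have hW : W * ι G - 1 ∈ Ideal.span (Set.range F') := Ideal.subset_span ⟨Fin.last N, by simp [F']⟩
    have hred : ∀ z, ∃ (k : ℕ) (x : MvPolynomial (Fin N) A), ι G ^ k * z - ι x ∈ Ideal.span (Set.range F') := by
      intro z
      induction z using MvPolynomial.induction_on with
      | C a => exact ⟨0, C a, by simp [ι]⟩
      | add y z hy hz =>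
        obtain ⟨k, x, hx⟩ := hy
        obtain ⟨l, x', hx'⟩ := hz
        refine ⟨k + l, G ^ l * x + G ^ k * x', ?_⟩
        rw [show ι G ^ (k + l) * (y + z) - ι (G ^ l * x + G ^ k * x') =
          ι G ^ l * (ι G ^ k * y - ι x) + ι G ^ k * (ι G ^ l * z - ι x') by
          simp only [map_add, map_mul, map_pow]; ring]
        exact add_mem (Ideal.mul_mem_left _ _ hx) (Ideal.mul_mem_left _ _ hx')
      | mul_X z j hz =>
        obtain ⟨k, x, hx⟩ := hz
        induction j using Fin.lastCases with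
        | last =>
          refine ⟨k + 1, x, ?_⟩
          rw [show ι G ^ (k + 1) * (z * X (Fin.last N)) - ι x =
            (ι G ^ k * z - ι x) + ι G ^ k * z * (W * ι G - 1) by simp only [W]; ring]
          exact add_mem hx (Ideal.mul_mem_left _ _ hW)
        | cast i =>
          refine ⟨k, x * X i, ?_⟩
          rw [show ι G ^ k * (z * X (Fin.castSucc i)) - ι (x * X i) = (ι G ^ k * z - ι x) * X (Fin.castSucc i) by
            simp only [map_mul, ι, rename_X]; ring]
          exact Ideal.mul_mem_right _ _ hx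
    have hle : Ideal.span (Set.range F) ≤ (Ideal.span (Set.range F')).comap ι := Ideal.span_le.2 (by
      rintro _ ⟨i, rfl⟩
      exact Ideal.subset_span ⟨i.castSucc, by simp [F']⟩)
    have hker : Ideal.span (Set.range F') ≤ RingHom.ker ψ := Ideal.span_le.2 (by
      rintro _ ⟨i, rfl⟩
      induction i using Fin.lastCases with
      | last => simp [F', hψι, hWinv]
      | cast i => simp [F', hψι, hF])
    obtain ⟨k, x, hx⟩ := hred z
    have hx0 : algebraMap B S (Θ x) = 0 := by
      have := hker hx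
      rw [RingHom.mem_ker, map_sub, map_mul, show ψ z = 0 from hz, mul_zero, zero_sub, neg_eq_zero, hψι] at this
      exact this
    obtain ⟨⟨_, l, rfl⟩, hl⟩ := (IsLocalization.map_eq_zero_iff (Submonoid.powers (Θ G)) S (Θ x)).1 hx0
    have hGx : G * (G ^ l * x) ∈ Ideal.span (Set.range F) := hG _ (by rw [map_mul, map_pow]; exact hl)
    have hpow : ι G ^ (k + (l + 1)) * z ∈ Ideal.span (Set.range F') := by
      rw [show ι G ^ (k + (l + 1)) * z = ι G ^ (l + 1) * (ι G ^ k * z - ι x) + ι (G * (G ^ l * x)) by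
        simp only [map_mul, map_pow]; ring]
      exact add_mem (Ideal.mul_mem_left _ _ hx) (hle hGx)
    have hu : (W * ι G) ^ (k + (l + 1)) - 1 ∈ Ideal.span (Set.range F') := by
      obtain ⟨c, hc⟩ := sub_one_dvd_pow_sub_one (W * ι G) (k + (l + 1))
      rw [hc]; exact Ideal.mul_mem_right _ _ hW
    rw [show z = W ^ (k + (l + 1)) * (ι G ^ (k + (l + 1)) * z) - ((W * ι G) ^ (k + (l + 1)) - 1) * z by ring]
    exact sub_mem (Ideal.mul_mem_left _ _ hpow) (Ideal.mul_mem_right _ _ hu)
  · rintro _ ⟨i, rfl⟩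
    show ψ (F' i) = 0
    induction i using Fin.lastCases with
    | last => simp [F', hψι, hWinv]
    | cast i => simp [F', hψι, hF]

/-- A flat quasi-finite lci algebra is locally a square global complete intersection. -/
theorem exists_square_presentation [Module.Flat A B] [Algebra.FinitePresentation A B] [Algebra.QuasiFinite A B]
    (q : Ideal B) [q.IsPrime] (h : Synt.IsLCIOver (q.under A).ResidueField ((q.under A).Fiber B)) :
    ∃ g ∉ q, ∃ (S : Type u) (_ : CommRing S) (_ : Algebra A S) (_ : Algebra B S) (_ : IsScalarTower A B S)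
      (_ : IsLocalization.Away g S) (N : ℕ) (ψ : MvPolynomial (Fin N) A →ₐ[A] S)
      (F : Fin N → MvPolynomial (Fin N) A),
      Function.Surjective ψ ∧ RingHom.ker ψ.toRingHom = Ideal.span (Set.range F) := by
  obtain ⟨qb, hqb, hmem⟩ := exists_prime_fiber (A := A) q
  obtain ⟨gb, hgb, n, φ, r, hφ, hr⟩ := exists_fibre_presentation (q.under A) h qb
  obtain ⟨s₀, hs₀, g₀, hg₀⟩ := exists_fiber_smul_eq (q.under A) gb
  have hconst : ∀ a ∉ q.under A, algebraMap A B a ∉ q := fun a ha h => ha h
  have hg₀q : g₀ ∉ q := fun hc => by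
    have h1 := (hmem g₀).2 hc
    rw [← hg₀] at h1
    refine (hqb.mem_or_mem h1).elim (fun h2 => hs₀ ?_) hgb
    have h3 : (1 : (q.under A).ResidueField) ⊗ₜ[A] (algebraMap A B s₀) ∈ qb := by
      rw [Algebra.algebraMap_eq_smul_one, TensorProduct.tmul_smul, ← Algebra.TensorProduct.one_def,
        ← Algebra.algebraMap_eq_smul_one]
      exact h2
    exact (hmem _).1 h3
  let g : B := g₀ * algebraMap A B s₀
  have hgq : g ∉ q := q.primeCompl.mul_mem hg₀q (hconst s₀ hs₀)
  let B' := Localization.Away g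
  let C := Localization.Away gb
  haveI : Algebra.FinitePresentation B B' := IsLocalization.Away.finitePresentation g
  haveI : Algebra.FinitePresentation A B' := Algebra.FinitePresentation.trans A B B'
  haveI : Module.Flat B B' := IsLocalization.flat B' (Submonoid.powers g)
  haveI : Module.Flat A B' := Module.Flat.trans A B B'
  let ι : B →ₐ[A] (q.under A).Fiber B := Algebra.TensorProduct.includeRight
  have hιg : ι g = gb * (algebraMap A ((q.under A).Fiber B) s₀) ^ 2 := by
    show ι (g₀ * algebraMap A B s₀) = _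
    rw [map_mul, AlgHom.commutes, show ι g₀ = algebraMap A _ s₀ * gb from hg₀.symm]
    ring
  have hunit : IsUnit (algebraMap A ((q.under A).Fiber B) s₀) := by
    rw [IsScalarTower.algebraMap_apply A (q.under A).ResidueField]
    exact (isUnit_iff_ne_zero.2 fun h => hs₀ (Ideal.algebraMap_residueField_eq_zero.1 h)).map _
  have hgu : IsUnit (((IsScalarTower.toAlgHom A ((q.under A).Fiber B) C).comp ι) g) := by
    show IsUnit (algebraMap _ C (ι g))
    rw [hιg, map_mul, map_pow]
    exact (IsLocalization.Away.algebraMap_isUnit gb).mul ((hunit.map _).pow _)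
  let ρ : B' →ₐ[A] C := IsLocalization.Away.liftAlgHom (f := (IsScalarTower.toAlgHom A _ C).comp ι) g hgu
  have hρι : ∀ b, ρ (algebraMap B B' b) = algebraMap _ C (ι b) := fun b =>
    IsLocalization.Away.lift_eq g hgu b
  -- lifts of the generators of the fibre
  have hgen : ∀ i, ∃ (a : A) (y : B'), a ∉ q.under A ∧ algebraMap A (q.under A).ResidueField a • φ (X i) = ρ y := by
    intro i
    obtain ⟨⟨z, _, k, rfl⟩, hz⟩ := IsLocalization.surj (Submonoid.powers gb) (φ (X i))
    obtain ⟨a, ha, b, hb⟩ := exists_fiber_smul_eq (q.under A) z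
    refine ⟨a, algebraMap B B' b * (algebraMap A B' s₀ ^ 2) ^ k * (IsLocalization.Away.invSelf g) ^ k, ha, ?_⟩
    have hinv : ρ (IsLocalization.Away.invSelf g) * algebraMap _ C (ι g) = 1 := by
      rw [← hρι, ← map_mul, mul_comm, IsLocalization.Away.mul_invSelf, map_one]
    rw [map_mul, map_mul, map_pow, map_pow, map_pow, hρι, AlgHom.commutes, show ι b = algebraMap A _ a * z from hb.symm,
      map_mul, ← hz, map_pow, algebraMap_smul, Algebra.smul_def, ← IsScalarTower.algebraMap_apply A ((q.under A).Fiber B) C]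
    rw [hιg, map_mul, map_pow, ← IsScalarTower.algebraMap_apply A ((q.under A).Fiber B) C] at hinv
    calc algebraMap A C a * φ (X i)
        = algebraMap A C a * φ (X i) * (ρ (IsLocalization.Away.invSelf g) * (algebraMap _ C gb * algebraMap A C s₀ ^ 2)) ^ k := by
          rw [hinv, one_pow, mul_one]
      _ = _ := by ring
  choose a y ha hy using hgen
  obtain ⟨m, v, hv⟩ : ∃ (m : ℕ) (v : Fin m → B'), Algebra.adjoin A (Set.range v) = ⊤ := by
    obtain ⟨m, f, hf⟩ := Algebra.FiniteType.iff_quotient_mvPolynomial''.1 (inferInstance : Algebra.FiniteType A B')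
    refine ⟨m, fun i => f (X i), ?_⟩
    rw [show Set.range (fun i => f (X i)) = f '' Set.range X from Set.range_comp f X, ← AlgHom.map_adjoin,
      MvPolynomial.adjoin_range_X, Algebra.map_top, AlgHom.range_eq_top]
    exact hf
  let Θ : MvPolynomial (Fin (n + m)) A →ₐ[A] B' := aeval (Fin.append y v)
  have hΘ : Function.Surjective Θ := by
    rw [← AlgHom.range_eq_top, eq_top_iff, ← hv, Algebra.adjoin_le_iff]
    rintro _ ⟨j, rfl⟩
    exact ⟨X (Fin.natAdd n j), by simp [Θ]⟩
  obtain ⟨R, -, hR⟩ := exists_presentation_extend m φ hφ r hr (fun i => algebraMap A (q.under A).ResidueField (a i))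
    (fun i h0 => ha i (Ideal.algebraMap_residueField_eq_zero.1 h0)) (fun j => ρ (v j))
  let Φ : MvPolynomial (Fin (n + m)) (q.under A).ResidueField →ₐ[(q.under A).ResidueField] C :=
    aeval (Fin.append (fun i => algebraMap A (q.under A).ResidueField (a i) • φ (X i)) (fun j => ρ (v j)))
  have hΦ : ∀ x, Φ (fibMap (n + m) (q.under A) x) = ρ (Θ x) := by
    have h : Φ.toRingHom.comp (fibMap (n + m) (q.under A)) = ρ.toRingHom.comp Θ.toRingHom := by
      refine MvPolynomial.ringHom_ext (fun c => ?_) fun j => ?_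
      · show Φ (fibMap (n + m) (q.under A) (MvPolynomial.C c)) = ρ (Θ (MvPolynomial.C c))
        rw [fibMap, map_C, ← MvPolynomial.algebraMap_eq, AlgHom.commutes, ← MvPolynomial.algebraMap_eq,
          AlgHom.commutes, AlgHom.commutes, ← IsScalarTower.algebraMap_apply]
      · show Φ (fibMap (n + m) (q.under A) (X j)) = ρ (Θ (X j))
        induction j using Fin.addCases with
        | left i => simp [Φ, Θ, fibMap, ← hy i]
        | right j => simp [Φ, Θ, fibMap]
    exact fun x => RingHom.congr_fun h x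
  let q' : Ideal B' := q.map (algebraMap B B')
  have hdis : Disjoint (Submonoid.powers g : Set B) q := by
    rw [Set.disjoint_left]
    rintro _ ⟨k, rfl⟩ hk
    exact hgq (Ideal.IsPrime.mem_of_pow_mem inferInstance k hk)
  haveI hq' : q'.IsPrime := IsLocalization.isPrime_of_isPrime_disjoint (Submonoid.powers g) B' q inferInstance hdis
  have hq'c : q'.comap (algebraMap B B') = q :=
    IsLocalization.comap_map_of_isPrime_disjoint (Submonoid.powers g) B' inferInstance hdis
  let Q : Ideal (MvPolynomial (Fin (n + m)) A) := q'.comap Θ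
  have hQ : Q.under A = q.under A := by
    ext c
    show Θ (algebraMap A _ c) ∈ q' ↔ algebraMap A B c ∈ q
    rw [AlgHom.commutes, IsScalarTower.algebraMap_apply A B B', ← Ideal.mem_comap, hq'c]
  have hker : ∀ b, ρ b = 0 → ∃ t ∉ Q, Θ t * b ∈ (q.under A).map (algebraMap A B') := by
    intro b hb
    obtain ⟨⟨x, ⟨_, k, rfl⟩⟩, hx⟩ := IsLocalization.surj (Submonoid.powers g) b
    have h1 : algebraMap _ C (ι x) = 0 := by rw [← hρι, ← hx, map_mul, hb, zero_mul]
    obtain ⟨⟨_, l, rfl⟩, hl⟩ := (IsLocalization.map_eq_zero_iff (Submonoid.powers gb) C (ι x)).1 h1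
    have h2 : (1 : (q.under A).ResidueField) ⊗ₜ[A] (g ^ l * x) = 0 := by
      show ι (g ^ l * x) = 0
      rw [map_mul, map_pow, hιg, mul_pow, mul_comm (gb ^ l), mul_assoc]
      exact mul_eq_zero_of_right _ hl
    obtain ⟨c, hc, hcx⟩ := exists_smul_mem_map_of_fiber_eq_zero (q.under A) _ h2
    obtain ⟨t, ht⟩ := hΘ (algebraMap B B' (algebraMap A B c * g ^ l * g ^ k))
    refine ⟨t, fun htQ => ?_, ?_⟩
    · have h3 : algebraMap B B' (algebraMap A B c * g ^ l * g ^ k) ∈ q' := ht ▸ htQ
      rw [← Ideal.mem_comap, hq'c] at h3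
      exact q.primeCompl.mul_mem (q.primeCompl.mul_mem (hconst c hc) (q.primeCompl.pow_mem hgq l))
        (q.primeCompl.pow_mem hgq k) h3
    · rw [ht, map_mul, mul_assoc, mul_comm (algebraMap B B' (g ^ k)), hx, ← map_mul, IsScalarTower.algebraMap_eq A B B',
        ← Ideal.map_map, mul_assoc, ← Algebra.smul_def c]
      exact Ideal.mem_map_of_mem _ hcx
  obtain ⟨F, G, hG, hF, hGx⟩ := exists_lift_relations Θ hΘ (q.under A) Q hQ ρ hker Φ hΦ R hR
  obtain ⟨⟨b₀, ⟨_, k, rfl⟩⟩, hb₀⟩ := IsLocalization.surj (Submonoid.powers g) (Θ G)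
  have hassoc : Associated (algebraMap B B' b₀) (Θ G) := by
    rw [← hb₀]
    exact associated_mul_unit_left _ _ (IsLocalization.map_units B' (⟨g ^ k, k, rfl⟩ : Submonoid.powers g))
  have hb₀q : b₀ ∉ q := fun hbq => hG (show Θ G ∈ q' from
    (Ideal.mul_unit_mem_iff_mem _ (IsLocalization.map_units B' (⟨g ^ k, k, rfl⟩ : Submonoid.powers g))).1
      (by rw [hb₀]; exact Ideal.mem_map_of_mem _ hbq))
  refine ⟨g * b₀, q.primeCompl.mul_mem hgq hb₀q, Localization.Away (Θ G), inferInstance, inferInstance, inferInstance,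
    inferInstance, ?_, n + m + 1, exists_presentation_away Θ hΘ F G hF hGx (Localization.Away (Θ G))⟩
  haveI : IsLocalization.Away (algebraMap B B' b₀) (Localization.Away (Θ G)) :=
    IsLocalization.Away.of_associated hassoc.symm
  exact IsLocalization.Away.mul' B' (Localization.Away (Θ G)) g b₀

end Groth.Agent.Disc12
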