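import Groth.Agent.Disc12.Duality

/-! Norm of the different and the discriminant. -/

universe u v

set_option autoImplicit false

open TensorProduct Matrix

namespace Groth.Agent.Disc12

variable {A : Type u} {B : Type v} [CommRing A] [CommRing B] [Algebra A B]
variable {ι : Type*} [Fintype ι] [DecidableEq ι] (b : Module.Basis ι A B)

/-- Gram matrix of a functional. -/
noncomputable def gram (g : B →ₗ[A] A) : Matrix ι ι A := Matrix.of fun i j => g (b i * b j)

omit [DecidableEq ι] in
theorem apply_mul_eq_sum (g : B →ₗ[A] A) (d : B) (j : ι) :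
    g (d * b j) = ∑ l, b.repr d l * g (b l * b j) := by
  conv_lhs => rw [← b.sum_repr d, Finset.sum_mul, map_sum]
  simp

theorem leftMulMatrix_eq_mul (r : B) (d : ι → B) (g : B →ₗ[A] A)
    (h : ∀ k x, b.coord k (r * x) = g (d k * x)) :
    Algebra.leftMulMatrix b r = Matrix.of (fun k l => b.repr (d k) l) * gram b g := by
  ext k j
  rw [Algebra.leftMulMatrix_eq_repr_mul, Matrix.mul_apply, ← Module.Basis.coord_apply, h,
    apply_mul_eq_sum b]
  rfl

theorem norm_mem_span_discr [Module.Free A B] [Module.Finite A B] (x : B)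
    (hx : x ∈ _root_.Disc.differentSet A B) : Algebra.norm A x ∈ Ideal.span {Algebra.discr A b} := by
  choose c hc using fun k => hx (b.coord k)
  rw [Algebra.norm_eq_matrix_det b, leftMulMatrix_eq_mul b x c (Algebra.trace A B) hc, Matrix.det_mul,
    Algebra.discr_def]
  exact Ideal.mem_span_singleton'.2 ⟨_, rfl⟩

theorem transpose_leftMulMatrix_mul_gram (r : B) (g : B →ₗ[A] A) :
    (Algebra.leftMulMatrix b r)ᵀ * gram b g = Matrix.of fun i j => g (r * b i * b j) := by
  ext i j
  rw [Matrix.mul_apply, Matrix.of_apply, apply_mul_eq_sum b]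
  exact Finset.sum_congr rfl fun l _ => by
    rw [Matrix.transpose_apply, Algebra.leftMulMatrix_eq_repr_mul]
    rfl

theorem norm_mul_eq [Module.Free A B] [Module.Finite A B] {r t : B} {g : B →ₗ[A] A}
    (h : ∀ x, Algebra.trace A B (r * x) = g (t * x)) :
    Algebra.norm A r * Algebra.discr A b = Algebra.norm A t * (gram b g).det := by
  have h1 := congrArg Matrix.det (transpose_leftMulMatrix_mul_gram b r (Algebra.trace A B))
  have h2 := congrArg Matrix.det (transpose_leftMulMatrix_mul_gram b t g)
  rw [Matrix.det_mul, Matrix.det_transpose, ← Algebra.norm_eq_matrix_det] at h1 h2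
  rw [Algebra.discr_def, show Algebra.traceMatrix A ⇑b = gram b (Algebra.trace A B) from rfl, h1, h2]
  congr 1
  ext i j
  simp only [Matrix.of_apply, mul_assoc, h]

theorem discr_mem_span_norm [Module.Free A B] [Module.Finite A B] [Module.Invertible B (_root_.Disc.Omega A B)] :
    Algebra.discr A b ∈ Ideal.span (Algebra.norm A '' _root_.Disc.differentSet A B) := by
  let I := Ideal.span (Algebra.norm A '' _root_.Disc.differentSet A B)
  let d := Algebra.discr A b
  by_contra hd
  have hne : I.colon {d} ≠ ⊤ := fun h => hd (by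
    have : (1 : A) ∈ I.colon {d} := h ▸ Submodule.mem_top
    simpa [Submodule.mem_colon_singleton] using this)
  obtain ⟨p, hp, hle⟩ := Ideal.exists_le_maximal _ hne
  haveI := hp
  let P : Ideal B := p.map (algebraMap A B)
  let Q := B ⧸ P
  letI : Field (A ⧸ p) := Ideal.Quotient.field p
  haveI : Module.Finite (A ⧸ p) Q := Module.Finite.of_restrictScalars_finite A _ _
  haveI : IsArtinianRing Q := IsArtinianRing.of_finite (A ⧸ p) Q
  haveI : Subsingleton (CommRing.Pic Q) := inferInstance
  obtain ⟨e⟩ : Nonempty ((Q ⊗[B] _root_.Disc.Omega A B) ≃ₗ[Q] Q) :=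
    (Module.Invertible.free_iff_linearEquiv (R := Q)).1 inferInstance
  obtain ⟨g₁, hg₁⟩ := TensorProduct.mk_surjective B (_root_.Disc.Omega A B) Q Ideal.Quotient.mk_surjective (e.symm 1)
  let N := Submodule.span B {g₁}
  have hgen : (⊤ : Submodule B (_root_.Disc.Omega A B ⧸ N)) ≤ P • ⊤ := by
    rintro m -
    obtain ⟨l, rfl⟩ := Submodule.Quotient.mk_surjective _ m
    obtain ⟨c, hc⟩ := Ideal.Quotient.mk_surjective (e ((1 : Q) ⊗ₜ[B] l))
    have h1 : (1 : Q) ⊗ₜ[B] l = (1 : Q) ⊗ₜ[B] (c • g₁) := by
      apply e.injective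
      rw [TensorProduct.tmul_smul, ← algebraMap_smul Q c, map_smul, show (1 : Q) ⊗ₜ[B] g₁ = e.symm 1 from hg₁,
        e.apply_symm_apply, ← hc, Algebra.smul_def, mul_one]
      rfl
    have h2 : l - c • g₁ ∈ P • (⊤ : Submodule B (_root_.Disc.Omega A B)) := by
      have := congrArg (TensorProduct.quotTensorEquivQuotSMul (_root_.Disc.Omega A B) P) h1
      have e1 : ∀ m : _root_.Disc.Omega A B, TensorProduct.quotTensorEquivQuotSMul (_root_.Disc.Omega A B) P
          ((1 : Q) ⊗ₜ[B] m) = Submodule.Quotient.mk m := fun m => by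
        refine (TensorProduct.quotTensorEquivQuotSMul_mk_tmul P 1 m).trans ?_
        rw [one_smul]
      rw [e1, e1] at this
      exact (Submodule.Quotient.eq _).1 this
    have h3 := Submodule.mem_map_of_mem (f := N.mkQ) h2
    rw [Submodule.map_smul'', Submodule.map_top, Submodule.range_mkQ, map_sub, map_smul,
      show N.mkQ g₁ = 0 from (Submodule.Quotient.mk_eq_zero N).2 (Submodule.mem_span_singleton_self g₁),
      smul_zero, sub_zero] at h3
    exact h3
  haveI : Module.Finite B (_root_.Disc.Omega A B ⧸ N) := inferInstance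
  obtain ⟨r, hr, hrkill⟩ := Submodule.exists_sub_one_mem_and_smul_eq_zero_of_fg_of_le_smul P ⊤
    (Module.Finite.fg_top) hgen
  have hgg : ∀ l : _root_.Disc.Omega A B, ∃ c : B, r • l = c • g₁ := fun l => by
    have := hrkill (Submodule.Quotient.mk l) trivial
    rw [← Submodule.Quotient.mk_smul, Submodule.Quotient.mk_eq_zero, Submodule.mem_span_singleton] at this
    exact this.imp fun c hc => hc.symm
  obtain ⟨t, ht⟩ := hgg (_root_.Disc.Omega.trace A B)
  choose c hc using fun k => hgg (coordω b k)
  have hdiff : r * t ∈ _root_.Disc.differentSet A B := mem_differentSet_iff.2 fun l => by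
    obtain ⟨cl, hcl⟩ := hgg l
    refine ⟨cl * r, ?_⟩
    rw [mul_comm r t, mul_smul, hcl, mul_smul, ht, smul_comm]
  have e1 : Algebra.norm A r = (Matrix.of fun k l => b.repr (c k) l).det * (gram b g₁.toLinearMap).det := by
    rw [Algebra.norm_eq_matrix_det b, leftMulMatrix_eq_mul b r c g₁.toLinearMap, Matrix.det_mul]
    exact fun k x => congrArg (fun m : _root_.Disc.Omega A B => m.toLinearMap x) (hc k)
  have e2 := norm_mul_eq b (r := r) (t := t) (g := g₁.toLinearMap)
    fun x => congrArg (fun m : _root_.Disc.Omega A B => m.toLinearMap x) ht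
  have hI : Algebra.norm A r * Algebra.norm A r ∈ I.colon {d} := by
    rw [Submodule.mem_colon_singleton, smul_eq_mul, mul_assoc, e2, ← mul_assoc, ← map_mul]
    exact Ideal.mul_mem_right _ _ (Ideal.subset_span ⟨_, hdiff, rfl⟩)
  have hNr : Ideal.Quotient.mk p (Algebra.norm A r) = 1 := by
    have hP : ∀ y ∈ P, ∀ i, b.repr y i ∈ p := fun y hy i => by
      have hy' : y ∈ p • (⊤ : Submodule A B) := by rw [Ideal.smul_top_eq_map]; exact hy
      refine Submodule.smul_induction_on hy' (fun a ha x _ => ?_) fun x z hx hz => ?_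
      · rw [map_smul, Finsupp.smul_apply, smul_eq_mul]
        exact Ideal.mul_mem_right _ _ ha
      · rw [map_add, Finsupp.add_apply]
        exact add_mem hx hz
    rw [Algebra.norm_eq_matrix_det b, RingHom.map_det]
    refine (congrArg Matrix.det ?_).trans (Matrix.det_one (n := ι))
    ext i j
    rw [RingHom.mapMatrix_apply, Matrix.map_apply, Algebra.leftMulMatrix_eq_repr_mul]
    have := hP _ (Ideal.mul_mem_right (b j) P hr) i
    rw [sub_mul, one_mul, map_sub, Finsupp.sub_apply, ← Ideal.Quotient.eq] at this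
    rw [this, b.repr_self, Finsupp.single_apply, Matrix.one_apply]
    rcases eq_or_ne i j with rfl | h
    · simp
    · simp [h, h.symm]
  have : Ideal.Quotient.mk p (Algebra.norm A r * Algebra.norm A r) = 0 :=
    Ideal.Quotient.eq_zero_iff_mem.2 (hle hI)
  rw [map_mul, hNr, one_mul] at this
  exact one_ne_zero this

theorem span_norm_differentSet [Module.Free A B] [Module.Finite A B]
    [Module.Invertible B (_root_.Disc.Omega A B)] :
    Ideal.span (Algebra.norm A '' _root_.Disc.differentSet A B) = Ideal.span {Algebra.discr A b} :=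
  le_antisymm (Ideal.span_le.2 (by
      rintro _ ⟨x, hx, rfl⟩
      exact norm_mem_span_discr b x hx))
    ((Ideal.span_singleton_le_iff_mem _).2 (discr_mem_span_norm b))

end Groth.Agent.Disc12
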