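import Groth.Agent.Disc12.Duality
import Groth.Agent.Disc12.NormDiscr
import Groth.Agent.LocCoh.GorensteinCriteria

/-! Gorenstein fibres and invertibility of the dualizing module. -/

universe u

set_option autoImplicit false
set_option backward.isDefEq.respectTransparency false

open TensorProduct IsLocalRing

namespace Groth.Agent.Disc12

section Local

variable {k : Type u} [Field k] {C : Type u} [CommRing C] [Algebra k C] [FiniteDimensional k C] [IsLocalRing C]

omit [FiniteDimensional k C] [Algebra k C] in
theorem gorenstein_iff_isSocleLine [IsArtinianRing C] :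
    _root_.LocCoh.IsGorensteinLocalRing C ↔ LocCoh.IsSocleLine (⊥ : Ideal C) := by
  have h0 : ringKrullDim C = ((0 : ℕ) : WithBot ℕ∞) := ringKrullDimZero_iff_ringKrullDim_eq_zero.1 inferInstance
  haveI := LocCoh.isCohenMacaulay_of_subsingleton_H h0 fun j hj => absurd hj (Nat.not_lt_zero j)
  rw [LocCoh.gorenstein_iff_socle h0,
    LocCoh.nonempty_socle_iff (xs := []) (n := 0) rfl (by simp) (RingTheory.Sequence.IsWeaklyRegular.nil C C) ?_,
    Ideal.ofList_nil]
  rw [Ideal.ofList_nil, show Ideal.radical (⊥ : Ideal C) = maximalIdeal C from ?_]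
  rw [show (⊥ : Ideal C).radical = nilradical C from rfl, nilradical_eq_sInf]
  exact le_antisymm (sInf_le (inferInstance : (maximalIdeal C).IsPrime))
    (le_sInf fun J hJ => (IsLocalRing.eq_maximalIdeal (haveI : J.IsPrime := hJ; IsArtinianRing.isMaximal_of_isPrime J)).ge)

theorem exists_frobenius_iff :
    (∃ lam : C →ₗ[k] k, ∀ y, (∀ z, lam (y * z) = 0) → y = 0) ↔ LocCoh.IsSocleLine (⊥ : Ideal C) := by
  haveI : IsArtinianRing C := IsArtinianRing.of_finite k C
  have hsocle : ∀ N : Ideal C, N ≠ ⊥ → ∃ z ∈ N, z ≠ 0 ∧ ∀ a ∈ maximalIdeal C, a * z = 0 := by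
    intro N hN
    obtain ⟨K, ⟨hKN, hK0⟩, hKmin⟩ := IsArtinian.set_has_minimal {K : Ideal C | K ≤ N ∧ K ≠ ⊥} ⟨N, le_rfl, hN⟩
    obtain ⟨z, hzK, hz⟩ := Submodule.exists_mem_ne_zero_of_ne_bot hK0
    refine ⟨z, hKN hzK, hz, fun a ha => by_contra fun haz => ?_⟩
    have hle : Ideal.span {a * z} ≤ K := (Ideal.span_singleton_le_iff_mem _).2 (Ideal.mul_mem_left K _ hzK)
    have heq : Ideal.span {a * z} = K := hle.eq_of_not_lt fun hlt => hKmin (Ideal.span {a * z})
      ⟨hle.trans hKN, fun h => haz (Ideal.span_singleton_eq_bot.1 h)⟩ hlt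
    obtain ⟨c, hc⟩ := Ideal.mem_span_singleton'.1 (heq ▸ hzK : z ∈ Ideal.span {a * z})
    have hu : IsUnit (1 - c * a) := IsLocalRing.isUnit_one_sub_self_of_mem_nonunits _ ((maximalIdeal C).mul_mem_left c ha)
    have h0 : (1 - c * a) * z = 0 := by rw [sub_mul, one_mul, mul_assoc, hc, sub_self]
    exact hz (hu.mul_right_eq_zero.1 h0)
  constructor
  · rintro ⟨lam, hlam⟩
    obtain ⟨e, -, he0, he⟩ := hsocle ⊤ top_ne_bot
    refine ⟨e, fun h => he0 (by simpa using h), fun a ha => by simp [he a ha], fun z hz => ?_⟩
    let soc : Submodule k C :=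
      { carrier := {w | ∀ a ∈ maximalIdeal C, a * w = 0}
        add_mem' := fun {v w} hv hw a ha => by rw [mul_add, hv a ha, hw a ha, add_zero]
        zero_mem' := fun a _ => mul_zero a
        smul_mem' := fun r w hw a ha => by rw [mul_smul_comm, hw a ha, smul_zero] }
    let mC : Submodule k C := (maximalIdeal C).restrictScalars k
    let T : soc →ₗ[k] Module.Dual k (C ⧸ mC) :=
      { toFun := fun w => mC.liftQ (lam ∘ₗ LinearMap.mulLeft k w.1) fun a ha => by
          rw [LinearMap.mem_ker, LinearMap.comp_apply, LinearMap.mulLeft_apply, mul_comm, w.2 a ha, map_zero]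
        map_add' := fun v w => Submodule.linearMap_qext _ (LinearMap.ext fun a => by simp [add_mul])
        map_smul' := fun r w => Submodule.linearMap_qext _ (LinearMap.ext fun a => by simp) }
    have hT : Function.Injective T := (injective_iff_map_eq_zero T).2 fun w hw => Subtype.ext (hlam _ fun x =>
      LinearMap.congr_fun hw (Submodule.Quotient.mk x))
    let S : (C ⧸ mC) →ₗ[k] soc := mC.liftQ
      ((LinearMap.mulRight k e).codRestrict soc fun x a ha => by
        rw [LinearMap.mulRight_apply, mul_left_comm, he a ha, mul_zero])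
      fun a ha => Subtype.ext (he a ha)
    have hS : Function.Injective S := (injective_iff_map_eq_zero S).2 fun x hx => by
      obtain ⟨x, rfl⟩ := Submodule.Quotient.mk_surjective _ x
      refine (Submodule.Quotient.mk_eq_zero _).2 (by_contra fun hxm => he0 ?_)
      have hu : IsUnit x := IsLocalRing.notMem_maximalIdeal.1 hxm
      exact hu.mul_right_eq_zero.1 (congrArg Subtype.val hx)
    have hdim : Module.finrank k soc ≤ Module.finrank k (C ⧸ mC) :=
      (LinearMap.finrank_le_finrank_of_injective hT).trans_eq Subspace.dual_finrank_eq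
    have hsurj : Function.Surjective S := (LinearMap.injective_iff_surjective_of_finrank_eq_finrank
      (le_antisymm (LinearMap.finrank_le_finrank_of_injective hS) hdim)).1 hS
    obtain ⟨x, hx⟩ := hsurj ⟨z, fun a ha => by simpa using hz a ha⟩
    obtain ⟨x, rfl⟩ := Submodule.Quotient.mk_surjective _ x
    exact Submodule.mem_sup_right (Ideal.mem_span_singleton'.2 ⟨x, congrArg Subtype.val hx⟩)
  · rintro ⟨e, he0, he, hline⟩
    have he0' : e ≠ 0 := fun h => he0 (by simp [h])
    obtain ⟨lam, hlam⟩ := Module.Projective.exists_dual_ne_zero k he0'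
    refine ⟨lam, fun y hy => by_contra fun hy0 => ?_⟩
    obtain ⟨z, hzy, hz0, hz⟩ := hsocle (Ideal.span {y}) fun h => hy0 (Ideal.span_singleton_eq_bot.1 h)
    obtain ⟨d, hd⟩ := Ideal.mem_span_singleton'.1 hzy
    obtain ⟨j, hj, b, hb, hjb⟩ := Submodule.mem_sup.1 (hline z fun a ha => by simp [hz a ha])
    obtain rfl : j = 0 := by simpa using hj
    obtain ⟨c, hc⟩ := Ideal.mem_span_singleton'.1 hb
    rw [zero_add] at hjb
    have hcu : IsUnit c := IsLocalRing.notMem_maximalIdeal.1 fun hcm => hz0 (by
      rw [← hjb, ← hc]; simpa using he c hcm)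
    obtain ⟨u, rfl⟩ := hcu
    refine hlam ?_
    have : e = y * (d * (↑u⁻¹ : C)) := by
      rw [← mul_assoc, mul_comm y d, hd, ← hjb, ← hc, mul_comm (u : C) e, mul_assoc, Units.mul_inv, mul_one]
    rw [this]
    exact hy _

end Local

variable {A B : Type u} [CommRing A] [CommRing B] [Algebra A B]

/-- The functional on the fibre. -/
noncomputable def fibFun (p : Ideal A) [p.IsPrime] (l : Disc.Omega A B) : p.Fiber B →ₗ[p.ResidueField] p.ResidueField :=
  (TensorProduct.AlgebraTensorModule.rid A p.ResidueField p.ResidueField).toLinearMap ∘ₗ l.toLinearMap.baseChange p.ResidueField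

theorem fibFun_tmul (p : Ideal A) [p.IsPrime] (l : Disc.Omega A B) (κ : p.ResidueField) (b : B) :
    fibFun p l (κ ⊗ₜ b) = l.toLinearMap b • κ := by
  simp [fibFun]

theorem exists_homothety [Module.Finite A B] [Module.Free A B] (T : Disc.Omega A B →ₗ[B] Disc.Omega A B) :
    ∃ b : B, ∀ x, T x = b • x := by
  classical
  let e := Module.Free.chooseBasis A B
  let b : B := ∑ k, (T (coordω e k)).toLinearMap 1 • e k
  refine ⟨b, fun x => Disc.Omega.ext (LinearMap.ext fun y => ?_)⟩
  have hsum : ∀ (s : Finset (Module.Free.ChooseBasisIndex A B)) (c : Module.Free.ChooseBasisIndex A B → A),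
      (T (∑ k ∈ s, algebraMap A B (c k) • coordω e k)).toLinearMap 1 =
        ∑ k ∈ s, c k * (T (coordω e k)).toLinearMap 1 := by
    intro s c
    induction s using Finset.induction_on with
    | empty => simp
    | insert a s ha ih =>
      rw [Finset.sum_insert ha, Finset.sum_insert ha, map_add, Disc.Omega.add_toLinearMap, LinearMap.add_apply, ih,
        map_smul, algebraMap_smul_omega]
  have hTx : ∀ z, (T z).toLinearMap 1 = z.toLinearMap b := fun z => by
    conv_lhs => rw [omega_eq_sum e z]
    rw [hsum]
    simp [b, map_sum, mul_comm]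
  have := hTx (y • x)
  rw [map_smul, Disc.Omega.smul_toLinearMap_apply, mul_one, Disc.Omega.smul_toLinearMap_apply] at this
  rw [this, Disc.Omega.smul_toLinearMap_apply, mul_comm]

theorem invertible_of_span [Module.Finite A B] [Module.Free A B] {ι : Type*} [Fintype ι]
    (Φ : ι → (Disc.Omega A B →ₗ[B] B)) (l : ι → Disc.Omega A B) (h : ∑ i, Φ i (l i) = 1) :
    Module.Invertible B (Disc.Omega A B) := by
  classical
  have hswap : ∀ (F : Disc.Omega A B →ₗ[B] B) (x z : Disc.Omega A B), F z • x = F x • z := by
    intro F x z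
    obtain ⟨β, hβ⟩ := exists_homothety (F.smulRight x)
    have hkill : ∀ i, (β - F x) * Φ i (l i) ^ 2 = 0 := fun i => by
      obtain ⟨γ, hγ⟩ := exists_homothety ((Φ i).smulRight (l i))
      have e1 : F (l i) * Φ i x = β * Φ i (l i) := by simpa using congrArg (Φ i) (hβ (l i))
      have e2 : Φ i x * F (l i) = γ * F x := by simpa using congrArg F (hγ x)
      have e3 : Φ i (l i) * Φ i (l i) = γ * Φ i (l i) := by simpa using congrArg (Φ i) (hγ (l i))
      linear_combination -(Φ i (l i)) * e1 + (Φ i (l i)) * e2 - F x * e3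
    have hβF : β = F x := by
      have htop : Ideal.span (Set.range fun i => Φ i (l i)) = ⊤ :=
        (Ideal.eq_top_iff_one _).2 (h ▸ Ideal.sum_mem _ fun i _ => Ideal.subset_span ⟨i, rfl⟩)
      have htop2 := Ideal.span_pow_eq_top _ htop 2
      rw [← Set.range_comp] at htop2
      obtain ⟨c, hc⟩ := Ideal.mem_span_range_iff_exists_fun.1 ((Ideal.eq_top_iff_one _).1 htop2)
      rw [← sub_eq_zero, ← mul_one (β - F x), ← hc, Finset.mul_sum]
      exact Finset.sum_eq_zero fun i _ => by rw [Function.comp_apply, mul_left_comm, hkill, mul_zero]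
    exact (hβ z).trans (by rw [hβF])
  have hdual : ∀ z, ∑ i, Φ i z • l i = z := fun z => by
    simp_rw [hswap (Φ _) (l _) z, ← Finset.sum_smul, h, one_smul]
  refine ⟨⟨(injective_iff_map_eq_zero _).2 fun t ht => ?_, fun b => ?_⟩⟩
  · have key : ∀ t : Module.Dual B (Disc.Omega A B) ⊗[B] Disc.Omega A B,
        t = ∑ i, contractLeft B (Disc.Omega A B) t • (Φ i ⊗ₜ[B] l i) := by
      intro t
      induction t using TensorProduct.induction_on with
      | zero => simp
      | tmul F x =>
        conv_lhs => rw [← hdual x, TensorProduct.tmul_sum]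
        refine Finset.sum_congr rfl fun i _ => ?_
        rw [TensorProduct.tmul_smul, TensorProduct.smul_tmul', TensorProduct.smul_tmul', contractLeft_apply]
        congr 1
        refine LinearMap.ext fun y => ?_
        have := congrArg F (hswap (Φ i) y x)
        simpa [mul_comm] using this
      | add a b ha hb =>
        conv_lhs => rw [ha, hb]
        simp [add_smul, Finset.sum_add_distrib]
    rw [key t, ht]
    simp
  · exact ⟨∑ i, (b • Φ i) ⊗ₜ l i, by simp [map_sum, ← Finset.mul_sum, h]⟩

theorem fibFun_smul (p : Ideal A) [p.IsPrime] (b : B) (x : Disc.Omega A B) (y : p.Fiber B) :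
    fibFun p (b • x) y = fibFun p x (((1 : p.ResidueField) ⊗ₜ b) * y) := by
  induction y using TensorProduct.induction_on with
  | zero => simp
  | tmul κ c => simp [fibFun_tmul]
  | add y z hy hz => simp only [mul_add, map_add, hy, hz]

theorem eq_zero_of_forall_fibFun [Module.Finite A B] [Module.Free A B] (p : Ideal A) [p.IsPrime]
    (y : p.Fiber B) (hy : ∀ x : Disc.Omega A B, fibFun p x y = 0) : y = 0 := by
  classical
  let e := Module.Free.chooseBasis A B
  let eC := Algebra.TensorProduct.basis p.ResidueField e
  have hrepr : ∀ (k : Module.Free.ChooseBasisIndex A B) (z : p.Fiber B), eC.repr z k = fibFun p (coordω e k) z := by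
    intro k z
    induction z using TensorProduct.induction_on with
    | zero => simp
    | tmul κ b =>
      rw [fibFun_tmul, Algebra.TensorProduct.basis_repr_tmul]
      simp [coordω, Algebra.smul_def, mul_comm]
    | add a b ha hb => simp only [map_add, Finsupp.add_apply, ha, hb]
  exact eC.repr.injective (Finsupp.ext fun k => by simp [hrepr, hy])

/-- Invertibility gives a nondegenerate functional near every point of a fibre. -/
theorem exists_fibFun_of_invertible [Module.Finite A B] [Module.Free A B]
    [Module.Invertible B (Disc.Omega A B)] (p : Ideal A) [p.IsPrime] (q : Ideal (p.Fiber B)) [q.IsPrime] :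
    ∃ (lam : p.Fiber B →ₗ[p.ResidueField] p.ResidueField), ∃ u ∉ q, ∀ y, (∀ z, lam (y * z) = 0) → u * y = 0 := by
  obtain ⟨t, ht⟩ := (Module.Invertible.bijective (R := B) (M := Disc.Omega A B)).2 1
  have key : ∀ t : Module.Dual B (Disc.Omega A B) ⊗[B] Disc.Omega A B,
      (1 : p.ResidueField) ⊗ₜ[A] contractLeft B (Disc.Omega A B) t ∉ q →
      ∃ (F : Disc.Omega A B →ₗ[B] B) (l : Disc.Omega A B), (1 : p.ResidueField) ⊗ₜ[A] F l ∉ q := by
    intro t
    induction t using TensorProduct.induction_on with
    | zero => simp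
    | tmul F x => exact fun h => ⟨F, x, h⟩
    | add a b ha hb =>
      intro h
      rw [map_add, tmul_add] at h
      by_contra hcon
      exact h (add_mem (by_contra fun h' => hcon (ha h')) (by_contra fun h' => hcon (hb h')))
  obtain ⟨F, l, hFl⟩ := key t (by
    rw [ht, ← Algebra.TensorProduct.one_def]
    exact Ideal.IsPrime.one_notMem inferInstance)
  refine ⟨fibFun p l, _, hFl, fun y hy => eq_zero_of_forall_fibFun p _ fun x => ?_⟩
  rw [← fibFun_smul, smul_comm_of_invertible F l x, fibFun_smul, mul_comm]
  exact hy _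

section Fibre

variable {k : Type u} [Field k] {C : Type u} [CommRing C] [Algebra k C] [FiniteDimensional k C]

theorem gorenstein_localization_of_functional (q : Ideal C) [q.IsPrime] (lam : C →ₗ[k] k) {u : C} (hu : u ∉ q)
    (hlam : ∀ y, (∀ z, lam (y * z) = 0) → u * y = 0) :
    _root_.LocCoh.IsGorensteinLocalRing (Localization.AtPrime q) := by
  classical
  haveI : IsArtinianRing C := IsArtinianRing.of_finite k C
  let L := Localization.AtPrime q
  have hsurj : Function.Surjective (algebraMap C L) := IsArtinianRing.localization_surjective q.primeCompl L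
  haveI : FiniteDimensional k L := Module.Finite.of_surjective (IsScalarTower.toAlgHom k C L).toLinearMap hsurj
  haveI : IsArtinianRing L := IsArtinianRing.of_finite k L
  rw [gorenstein_iff_isSocleLine, ← exists_frobenius_iff (k := k)]
  -- an element outside `q` killing the kernel
  obtain ⟨s, hs⟩ := (IsNoetherian.noetherian (RingHom.ker (algebraMap C L)) : (RingHom.ker (algebraMap C L)).FG)
  have hkill : ∀ x ∈ s, ∃ t ∉ q, t * x = 0 := fun x hx => by
    obtain ⟨⟨t, ht⟩, htx⟩ := (IsLocalization.map_eq_zero_iff q.primeCompl L x).1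
      (RingHom.mem_ker.1 (hs ▸ Ideal.subset_span hx))
    exact ⟨t, ht, htx⟩
  choose! t ht htx using hkill
  let T := ∏ x ∈ s, t x
  have hT : T ∉ q := q.primeCompl.prod_mem fun x hx => ht x hx
  have hTker : ∀ y, algebraMap C L y = 0 → T * y = 0 := by
    intro y hy
    have hle : RingHom.ker (algebraMap C L) ≤ LinearMap.ker (LinearMap.mulLeft C T) := by
      rw [← hs, Submodule.span_le]
      intro x hx
      show T * x = 0
      rw [show T = (∏ z ∈ s.erase x, t z) * t x from (Finset.prod_erase_mul _ _ hx).symm, mul_assoc, htx x hx, mul_zero]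
    exact hle hy
  let π : C →ₗ[k] L := (IsScalarTower.toAlgHom k C L).toLinearMap
  let g := Function.surjInv hsurj
  have hg : ∀ z, algebraMap C L (g z) = z := Function.surjInv_eq hsurj
  have hwd : ∀ y, T * g (algebraMap C L y) = T * y := fun y =>
    sub_eq_zero.1 (by rw [← mul_sub]; exact hTker _ (by rw [map_sub, hg, sub_self]))
  let lam' : L →ₗ[k] k :=
    { toFun := fun z => lam (T * g z)
      map_add' := fun a b => by
        obtain ⟨a, rfl⟩ := hsurj a
        obtain ⟨b, rfl⟩ := hsurj b
        rw [← map_add, hwd, hwd, hwd, mul_add, map_add]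
      map_smul' := fun r a => by
        obtain ⟨a, rfl⟩ := hsurj a
        rw [show r • algebraMap C L a = algebraMap C L (r • a) from (map_smul π r a).symm, hwd, hwd, mul_smul_comm,
          map_smul]
        rfl }
  refine ⟨lam', fun y hy => ?_⟩
  obtain ⟨y, rfl⟩ := hsurj y
  have h1 : u * (T * y) = 0 := hlam _ fun z => by
    have := hy (algebraMap C L z)
    change lam (T * g (algebraMap C L y * algebraMap C L z)) = 0 at this
    rw [← map_mul, hwd, ← mul_assoc] at this
    exact this
  refine (IsLocalization.map_eq_zero_iff q.primeCompl L y).2 ⟨⟨u * T, q.primeCompl.mul_mem hu hT⟩, ?_⟩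
  rw [← h1, mul_assoc]

theorem exists_functional_of_gorenstein (h : _root_.LocCoh.IsGorensteinRing C) :
    ∃ lam : C →ₗ[k] k, ∀ y, (∀ z, lam (y * z) = 0) → y = 0 := by
  classical
  haveI : IsArtinianRing C := IsArtinianRing.of_finite k C
  have hloc : ∀ I : MaximalSpectrum C, ∃ lam : Localization.AtPrime I.asIdeal →ₗ[k] k,
      ∀ y, (∀ z, lam (y * z) = 0) → y = 0 := fun I => by
    haveI : FiniteDimensional k (Localization.AtPrime I.asIdeal) :=
      Module.Finite.of_surjective (IsScalarTower.toAlgHom k C (Localization.AtPrime I.asIdeal)).toLinearMap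
        (IsArtinianRing.localization_surjective I.asIdeal.primeCompl _)
    haveI : IsArtinianRing (Localization.AtPrime I.asIdeal) := IsArtinianRing.of_finite k _
    rw [exists_frobenius_iff, ← gorenstein_iff_isSocleLine]
    exact h.isGorensteinLocalRing_localization I.asIdeal
  choose lam hlam using hloc
  haveI : Fintype (MaximalSpectrum C) := Fintype.ofFinite _
  refine ⟨∑ I, lam I ∘ₗ (IsScalarTower.toAlgHom k C (Localization.AtPrime I.asIdeal)).toLinearMap, fun y hy => ?_⟩
  let e := MaximalSpectrum.toPiLocalizationEquiv C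
  refine e.injective ?_
  rw [map_zero]
  funext I
  refine hlam I _ fun z => ?_
  let w := e.symm (Pi.single I z)
  have := hy w
  rw [LinearMap.sum_apply, Finset.sum_eq_single I (fun J _ hJ => ?_) (by simp)] at this
  · rw [LinearMap.comp_apply] at this
    convert this using 2
    show e y I * z = algebraMap C _ (y * w)
    rw [map_mul, show algebraMap C (Localization.AtPrime I.asIdeal) w = e w I from rfl, e.apply_symm_apply, Pi.single_eq_same]
    rfl
  · show lam J (algebraMap C _ (y * w)) = 0
    rw [map_mul, show algebraMap C (Localization.AtPrime J.asIdeal) w = e w J from rfl, e.apply_symm_apply, Pi.single_eq_of_ne hJ,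
      mul_zero, map_zero]

end Fibre

/-- A Gorenstein fibre gives a local inverse of the dualizing module. -/
theorem exists_eval_of_gorenstein [Module.Finite A B] [Module.Free A B] (p : Ideal A) [p.IsPrime]
    (h : _root_.LocCoh.IsGorensteinRing (p.Fiber B)) :
    ∃ (F : Disc.Omega A B →ₗ[B] B) (l : Disc.Omega A B), ∃ a ∉ p, F l = algebraMap A B a := by
  classical
  let e := Module.Free.chooseBasis A B
  let eC := Algebra.TensorProduct.basis p.ResidueField e
  obtain ⟨lam, hlam⟩ := exists_functional_of_gorenstein (k := p.ResidueField) h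
  -- lift the functional
  choose x hx using fun k => IsLocalization.surj (nonZeroDivisors (A ⧸ p)) (lam (eC k))
  let D : A ⧸ p := ∏ k, (x k).2.1
  have hD : D ≠ 0 := Finset.prod_ne_zero_iff.2 fun k _ => nonZeroDivisors.ne_zero (x k).2.2
  choose v hv using fun k => Ideal.Quotient.mk_surjective ((x k).1 * ∏ j ∈ Finset.univ.erase k, (x j).2.1)
  let l : Disc.Omega A B := ⟨e.constr A v⟩
  have hl : ∀ y, fibFun p l y = algebraMap (A ⧸ p) p.ResidueField D * lam y := by
    have hlin : fibFun p l = algebraMap (A ⧸ p) p.ResidueField D • lam := eC.ext fun k => by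
      rw [LinearMap.smul_apply, Algebra.TensorProduct.basis_apply, fibFun_tmul, Algebra.smul_def, mul_one, smul_eq_mul,
        show l.toLinearMap (e k) = v k from e.constr_basis A v k,
        IsScalarTower.algebraMap_apply A (A ⧸ p) p.ResidueField, Ideal.Quotient.algebraMap_eq, hv, map_mul, ← hx k,
        show D = (∏ j ∈ Finset.univ.erase k, (x j).2.1) * (x k).2.1 from
          (Finset.prod_erase_mul _ _ (Finset.mem_univ k)).symm, map_mul]
      simp only [eC, Algebra.TensorProduct.basis_apply]
      ring
    exact fun y => LinearMap.congr_fun hlin y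
  let G := gram e l.toLinearMap
  have hGp : G.det ∉ p := by
    intro hdet
    have hdet' : ((algebraMap A p.ResidueField).mapMatrix G).det = 0 := by
      rw [← RingHom.map_det, Ideal.algebraMap_residueField_eq_zero]
      exact hdet
    obtain ⟨w, hw0, hw⟩ := Matrix.exists_vecMul_eq_zero_iff.2 hdet'
    let y : p.Fiber B := ∑ i, w i • eC i
    have hy : ∀ z, lam (y * z) = 0 := by
      have hlin : lam ∘ₗ LinearMap.mulLeft p.ResidueField y = 0 := eC.ext fun j => by
        have h1 : fibFun p l (y * eC j) = 0 := by
          rw [Finset.sum_mul, map_sum]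
          refine Eq.trans ?_ (congrFun hw j)
          refine Finset.sum_congr rfl fun i _ => ?_
          rw [smul_mul_assoc, map_smul]
          simp only [eC, Algebra.TensorProduct.basis_apply, Algebra.TensorProduct.tmul_mul_tmul, mul_one, fibFun_tmul,
            RingHom.mapMatrix_apply, Matrix.map_apply, G, gram, Matrix.of_apply, Algebra.smul_def, Algebra.algebraMap_self, RingHom.id_apply]
        rw [hl] at h1
        refine (mul_eq_zero.1 h1).resolve_left ?_
        exact fun h0 => hD ((injective_iff_map_eq_zero _).1 (IsFractionRing.injective (A ⧸ p) p.ResidueField) _ h0)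
      exact fun z => LinearMap.congr_fun hlin z
    have hy0 := hlam y hy
    refine hw0 (funext fun i => ?_)
    have := congrArg (fun z => eC.repr z i) hy0
    simpa [y, Finsupp.single_apply] using this
  let a := G.det
  let S : Disc.Omega A B → B := fun z => ∑ i, Matrix.vecMul (fun j => z.toLinearMap (e j)) G.adjugate i • e i
  have hTS : ∀ z, S z • l = algebraMap A B a • z := fun z => Disc.Omega.ext (e.ext fun j => by
    rw [Disc.Omega.smul_toLinearMap_apply, algebraMap_smul_omega]
    simp only [S, Finset.sum_mul, smul_mul_assoc, map_sum, map_smul, smul_eq_mul]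
    have := congrFun (congrArg (Matrix.vecMul fun j => z.toLinearMap (e j)) (Matrix.adjugate_mul G)) j
    rw [← Matrix.vecMul_vecMul, Matrix.vecMul_smul, Matrix.vecMul_one] at this
    simpa [Matrix.vecMul, dotProduct, G, gram, a] using this)
  have hST : ∀ b : B, S (b • l) = algebraMap A B a * b := fun b => by
    have hb : (fun j => (b • l).toLinearMap (e j)) = Matrix.vecMul (fun i => e.repr b i) G := funext fun j => by
      rw [Disc.Omega.smul_toLinearMap_apply]
      exact apply_mul_eq_sum e l.toLinearMap b j
    simp only [S, hb, Matrix.vecMul_vecMul, Matrix.mul_adjugate, Matrix.vecMul_smul, Matrix.vecMul_one, Pi.smul_apply,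
      smul_eq_mul, mul_smul, ← Finset.smul_sum, e.sum_repr]
    rw [Algebra.smul_def]
  have hSadd : ∀ z z', S (z + z') = S z + S z' := fun z z' => by
    simp only [S, ← Finset.sum_add_distrib, ← add_smul]
    refine Finset.sum_congr rfl fun i _ => ?_
    rw [← Pi.add_apply, ← Matrix.add_vecMul]
    rfl
  have hSsmul : ∀ (r : A) z, S (algebraMap A B r • z) = algebraMap A B r * S z := fun r z => by
    simp only [S, ← Algebra.smul_def, Finset.smul_sum, smul_smul, algebraMap_smul_omega]
    refine Finset.sum_congr rfl fun i _ => ?_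
    congr 1
    simp [Matrix.vecMul, dotProduct, Finset.mul_sum, mul_assoc, algebraMap_smul_omega]
  let F : Disc.Omega A B →ₗ[B] B :=
    { toFun := fun z => algebraMap A B a * S z
      map_add' := fun z z' => by rw [hSadd, mul_add]
      map_smul' := fun b z => by
        show algebraMap A B a * S (b • z) = b * (algebraMap A B a * S z)
        have h1 : S ((b * S z) • l) = algebraMap A B a * (b * S z) := hST _
        rw [mul_smul, hTS, smul_comm b, hSsmul] at h1
        rw [h1]; ring }
  refine ⟨F, l, a * a, p.primeCompl.mul_mem hGp hGp, ?_⟩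
  show algebraMap A B a * S l = _
  have := hST 1
  rw [one_smul] at this
  rw [this, mul_one, map_mul]

theorem gorenstein_fibres_iff_invertible [IsNoetherianRing A] [Module.Finite A B] [Module.Free A B] :
    (∀ (p : Ideal A) [p.IsPrime], _root_.LocCoh.IsGorensteinRing (p.Fiber B)) ↔
      Module.Invertible B (Disc.Omega A B) := by
  constructor
  · intro h
    let I : Ideal B := Ideal.span {b | ∃ (F : Disc.Omega A B →ₗ[B] B) (l : Disc.Omega A B), F l = b}
    have hI : I = ⊤ := by
      by_contra hne
      obtain ⟨m, hm, hle⟩ := Ideal.exists_le_maximal I hne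
      obtain ⟨F, l, a, ha, hFl⟩ := exists_eval_of_gorenstein (m.under A) (h (m.under A))
      exact ha (show algebraMap A B a ∈ m from hFl ▸ hle (Ideal.subset_span ⟨F, l, rfl⟩))
    have h1 : (1 : B) ∈ I := hI ▸ Submodule.mem_top
    obtain ⟨m, c, g, hg⟩ := Submodule.mem_span_set'.1 h1
    choose F l hFl using fun i => (g i).2
    exact invertible_of_span (fun i => c i • F i) l (by
      simp only [LinearMap.smul_apply, hFl, hg])
  · intro h p _
    haveI : IsArtinianRing (p.Fiber B) := IsArtinianRing.of_finite p.ResidueField _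
    exact { isGorensteinLocalRing_localization := fun q _ => by
              obtain ⟨lam, u, hu, hlam⟩ := exists_fibFun_of_invertible (A := A) (B := B) p q
              exact gorenstein_localization_of_functional q lam hu hlam }

end Groth.Agent.Disc12
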