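import Groth.Prelude.Def_Disc
import Mathlib

/-! Associated primes of the dualizing module of a finite algebra. -/

universe u v

set_option autoImplicit false

open nonZeroDivisors

namespace Groth.Agent.Disc12

theorem exists_functional_ne_zero (R : Type u) [CommRing R] [IsDomain R] {M : Type v} [AddCommGroup M]
    [Module R M] [Module.Finite R M] {m₀ : M} (hm₀ : ∀ r : R, r • m₀ = 0 → r = 0) :
    ∃ ψ : M →ₗ[R] R, ψ m₀ ≠ 0 := by
  let K := FractionRing R
  let ι : M →ₗ[R] LocalizedModule R⁰ M := LocalizedModule.mkLinearMap R⁰ M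
  have hι : ι m₀ ≠ 0 := by
    intro h
    obtain ⟨r, hr, h'⟩ := LocalizedModule.mem_ker_mkLinearMap_iff.1 (LinearMap.mem_ker.2 h)
    exact nonZeroDivisors.ne_zero hr (hm₀ r h')
  obtain ⟨f, hf⟩ := Module.Projective.exists_dual_ne_zero K hι
  let ℓ : M →ₗ[R] K := (f.restrictScalars R).comp ι
  obtain ⟨s, hs⟩ := Module.Finite.fg_top (R := R) (M := M)
  obtain ⟨d, hd⟩ := IsLocalization.exist_integer_multiples R⁰ s ℓ
  let ℓ' : M →ₗ[R] K := (d : R) • ℓ
  have hrange : ∀ m, ℓ' m ∈ LinearMap.range (Algebra.linearMap R K) := by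
    intro m
    have hle : (⊤ : Submodule R M) ≤ (LinearMap.range (Algebra.linearMap R K)).comap ℓ' := by
      rw [← hs, Submodule.span_le]
      intro x hx
      exact hd x hx
    exact hle Submodule.mem_top
  let e := LinearEquiv.ofInjective (Algebra.linearMap R K) (IsFractionRing.injective R K)
  refine ⟨e.symm.toLinearMap.comp (ℓ'.codRestrict _ hrange), fun h => ?_⟩
  have h0 : ℓ' m₀ = 0 := congrArg Subtype.val ((LinearEquiv.map_eq_zero_iff e.symm).1 h)
  exact hf ((smul_eq_zero.1 h0).resolve_left (nonZeroDivisors.coe_ne_zero d))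

variable {A : Type u} {B : Type v} [CommRing A] [CommRing B] [Algebra A B]

theorem associatedPrimes_omega [IsNoetherianRing A] [IsNoetherianRing B] [Module.Finite A B] :
    associatedPrimes B (Disc.Omega A B) =
      {q : Ideal B | q.IsPrime ∧ q.comap (algebraMap A B) ∈ associatedPrimes A A} := by
  ext q
  constructor
  · intro hq
    obtain ⟨hqp, φ, hφ⟩ := isAssociatedPrime_iff.1 hq
    haveI := hqp
    refine ⟨hqp, ?_⟩
    obtain ⟨s, hs⟩ := Module.Finite.fg_top (R := A) (M := B)
    have hmem : ∀ a : A, a ∈ q.comap (algebraMap A B) ↔ ∀ x, a * φ.toLinearMap x = 0 := by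
      intro a
      rw [Ideal.mem_comap, hφ, Submodule.mem_colon_singleton, Submodule.mem_bot, Disc.Omega.ext_iff,
        LinearMap.ext_iff]
      refine forall_congr' fun x => ?_
      simp [← Algebra.smul_def]
    have heq : q.comap (algebraMap A B) = s.inf fun x => (⊥ : Submodule A A).colon {φ.toLinearMap x} := by
      ext a
      simp only [hmem, Submodule.mem_finsetInf, Submodule.mem_colon_singleton, Submodule.mem_bot, smul_eq_mul]
      refine ⟨fun h x _ => h x, fun h x => ?_⟩
      have hle : (⊤ : Submodule A B) ≤ LinearMap.ker (a • φ.toLinearMap) := by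
        rw [← hs, Submodule.span_le]
        intro y hy
        simpa using h y hy
      simpa using hle (Submodule.mem_top (x := x))
    have hp : (q.comap (algebraMap A B)).IsPrime := inferInstance
    obtain ⟨x, hx, hle⟩ := hp.inf_le'.1 heq.ge
    exact isAssociatedPrime_iff.2 ⟨hp, φ.toLinearMap x, le_antisymm (heq.le.trans (Finset.inf_le hx)) hle⟩
  · rintro ⟨hqp, hp⟩
    obtain ⟨hpp, a, ha⟩ := isAssociatedPrime_iff.1 hp
    haveI := hqp
    have hpa : ∀ r : A, r * a = 0 ↔ algebraMap A B r ∈ q := fun r => by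
      rw [← Ideal.mem_comap, ha, Submodule.mem_colon_singleton, Submodule.mem_bot, smul_eq_mul]
    obtain ⟨ψ, hψ⟩ := exists_functional_ne_zero (A ⧸ q.under A) (M := B ⧸ q) (m₀ := 1) (fun r hr => by
      obtain ⟨r, rfl⟩ := Ideal.Quotient.mk_surjective r
      rw [Algebra.smul_def, mul_one] at hr
      exact Ideal.Quotient.eq_zero_iff_mem.2 (Ideal.mem_comap.2 (Ideal.Quotient.eq_zero_iff_mem.1 hr)))
    let ι : (A ⧸ q.under A) →ₗ[A] A :=
      Submodule.liftQ (q.under A) (LinearMap.toSpanSingleton A A a) (fun r hr => by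
        simpa [LinearMap.mem_ker] using (hpa r).2 hr)
    let φ : Disc.Omega A B := ⟨ι.comp ((ψ.restrictScalars A).comp (Ideal.Quotient.mkₐ A q).toLinearMap)⟩
    have hφ : ∀ x, φ.toLinearMap x = ι (ψ (Ideal.Quotient.mk q x)) := fun x => rfl
    have hι : ∀ r : A, ι (Ideal.Quotient.mk _ r) = r * a := fun r => rfl
    refine isAssociatedPrime_iff.2 ⟨hqp, φ, ?_⟩
    have hqJ : q ≤ (⊥ : Submodule B (Disc.Omega A B)).colon {φ} := by
      intro b hb
      rw [Submodule.mem_colon_singleton, Submodule.mem_bot, Disc.Omega.ext_iff, LinearMap.ext_iff]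
      intro x
      rw [Disc.Omega.smul_toLinearMap_apply, hφ, map_mul, Ideal.Quotient.eq_zero_iff_mem.2 hb, zero_mul,
        map_zero, map_zero]
      rfl
    refine hqJ.eq_of_not_lt fun hlt => ?_
    obtain ⟨c, hc, hcq⟩ := SetLike.exists_of_lt (Ideal.IsIntegral.comap_lt_comap (R := A) hlt)
    rw [Ideal.mem_comap, Submodule.mem_colon_singleton, Submodule.mem_bot, Disc.Omega.ext_iff,
      LinearMap.ext_iff] at hc
    have h1 := hc 1
    rw [Disc.Omega.smul_toLinearMap_apply, ← Algebra.smul_def, map_smul, hφ, map_one] at h1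
    obtain ⟨r, hr⟩ := Ideal.Quotient.mk_surjective (ψ 1)
    rw [← hr, hι, smul_eq_mul, ← mul_assoc, Disc.Omega.zero_toLinearMap, LinearMap.zero_apply, hpa,
      map_mul] at h1
    refine hψ ?_
    rw [← hr, Ideal.Quotient.eq_zero_iff_mem]
    exact ((Ideal.IsPrime.mem_or_mem hqp h1).resolve_left hcq)

end Groth.Agent.Disc12
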