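import Groth.Agent.Disc12.Koszul.Colon

/-! The annihilator of the diagonal ideal of a relative global complete intersection. -/

universe u

set_option autoImplicit false
set_option backward.isDefEq.respectTransparency false

open TensorProduct

namespace Groth.Agent.Disc12

theorem annihilator_ker_eq_span {S T U : Type u} [CommRing S] [CommRing T] [CommRing U] {n : ℕ}
    (φ : S →+* T) (hφ : Function.Surjective φ) (ψ : T →+* U) {f g : Fin n → S} {c : Matrix (Fin n) (Fin n) S}
    (hker : RingHom.ker φ = Ideal.span (Set.range f)) (hg : Ideal.span (Set.range g) = RingHom.ker (ψ.comp φ))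
    (hex : ∀ p, Function.Exact (Koszul.d f (p + 1)) (Koszul.d f p)) (hc : ∀ i, f i = ∑ j, c i j * g j) :
    Submodule.annihilator (RingHom.ker ψ) = Ideal.span {φ c.det} := by
  ext y
  obtain ⟨r, rfl⟩ := hφ y
  have h1 : φ r ∈ Submodule.annihilator (RingHom.ker ψ) ↔ ∀ j, r * g j ∈ Ideal.span (Set.range f) := by
    rw [Submodule.mem_annihilator]
    constructor
    · intro h j
      rw [← hker, RingHom.mem_ker, map_mul]
      refine h _ ?_
      have hj : g j ∈ RingHom.ker (ψ.comp φ) := hg ▸ Ideal.subset_span ⟨j, rfl⟩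
      exact hj
    · intro h z hz
      obtain ⟨z, rfl⟩ := hφ z
      have hz' : z ∈ Ideal.span (Set.range g) := hg ▸ hz
      rw [smul_eq_mul, ← map_mul, ← RingHom.mem_ker, hker]
      have hle : Ideal.span (Set.range g) ≤
          Submodule.comap (LinearMap.mulLeft _ r) (Ideal.span (Set.range f)) := by
        rw [Ideal.span, Submodule.span_le]
        rintro _ ⟨j, rfl⟩
        exact h j
      exact hle hz'
  rw [h1, Koszul.mem_colon_iff hex hc, ← hker, ← Ideal.comap_map_of_surjective' φ hφ, Ideal.map_span,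
    Set.image_singleton, Ideal.mem_comap]

variable {A P : Type u} [CommRing A] [CommRing P] [Algebra A P] {n : ℕ}

theorem annihilator_ker_lmul_of_exact (f : Fin n → P) (hf : ∀ p, Function.Exact (Koszul.d f (p + 1)) (Koszul.d f p))
    [Module.Flat A (P ⧸ Ideal.span (Set.range f))]
    (g : Fin n → P ⊗[A] (P ⧸ Ideal.span (Set.range f)))
    (hgker : Ideal.span (Set.range g) = RingHom.ker (Algebra.TensorProduct.productMap
      (Ideal.Quotient.mkₐ A (Ideal.span (Set.range f))) (AlgHom.id A (P ⧸ Ideal.span (Set.range f)))))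
    (c : Matrix (Fin n) (Fin n) (P ⊗[A] (P ⧸ Ideal.span (Set.range f))))
    (hc : ∀ i, f i ⊗ₜ[A] (1 : P ⧸ Ideal.span (Set.range f)) = ∑ j, c i j * g j) :
    Submodule.annihilator (RingHom.ker
        (Algebra.TensorProduct.lmul' (S := P ⧸ Ideal.span (Set.range f)) A)) =
      Ideal.span {Algebra.TensorProduct.map (Ideal.Quotient.mkₐ A (Ideal.span (Set.range f)))
        (AlgHom.id A (P ⧸ Ideal.span (Set.range f))) (Matrix.det c)} := by
  let B := P ⧸ Ideal.span (Set.range f)
  let φ : P ⊗[A] B →ₐ[A] B ⊗[A] B :=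
    Algebra.TensorProduct.map (Ideal.Quotient.mkₐ A (Ideal.span (Set.range f))) (AlgHom.id A B)
  have hφ : Function.Surjective φ :=
    Algebra.TensorProduct.map_surjective _ _ Ideal.Quotient.mk_surjective Function.surjective_id
  have hker : RingHom.ker φ = Ideal.span (Set.range fun i => f i ⊗ₜ[A] (1 : B)) := by
    rw [Algebra.TensorProduct.map_ker _ _ Ideal.Quotient.mk_surjective Function.surjective_id,
      show RingHom.ker (Ideal.Quotient.mkₐ A (Ideal.span (Set.range f))) = _ from Ideal.mk_ker, (RingHom.injective_iff_ker_eq_bot (AlgHom.id A B)).1 Function.injective_id,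
      Ideal.map_bot, sup_bot_eq, Ideal.map_span, ← Set.range_comp]
    rfl
  have hfeq : (fun i => f i ⊗ₜ[A] (1 : B)) = fun i => algebraMap P (P ⊗[A] B) (f i) := rfl
  have hex : ∀ p, Function.Exact (Koszul.d (fun i => algebraMap P (P ⊗[A] B) (f i)) (p + 1))
      (Koszul.d (fun i => algebraMap P (P ⊗[A] B) (f i)) p) := fun p =>
    Koszul.exact_baseChange (R := P ⊗[A] B) p (hf p)
  rw [hfeq] at hker
  replace hc : ∀ i, algebraMap P (P ⊗[A] B) (f i) = ∑ j, c i j * g j := hc
  refine annihilator_ker_eq_span φ.toRingHom hφ (Algebra.TensorProduct.lmul' (S := B) A).toRingHom hker ?_ hex hc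
  rw [hgker, Algebra.TensorProduct.productMap_eq_comp_map]
  rfl

theorem annihilator_ker_lmul' (f : Fin n → P) (hf : LCI.IsKoszulRegularSeq P (List.ofFn f))
    [Module.Flat A (P ⧸ Ideal.span (Set.range f))]
    (g : Fin n → P ⊗[A] (P ⧸ Ideal.span (Set.range f)))
    (hgker : Ideal.span (Set.range g) = RingHom.ker (Algebra.TensorProduct.productMap
      (Ideal.Quotient.mkₐ A (Ideal.span (Set.range f))) (AlgHom.id A (P ⧸ Ideal.span (Set.range f)))))
    (c : Matrix (Fin n) (Fin n) (P ⊗[A] (P ⧸ Ideal.span (Set.range f))))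
    (hc : ∀ i, f i ⊗ₜ[A] (1 : P ⧸ Ideal.span (Set.range f)) = ∑ j, c i j * g j) :
    Submodule.annihilator (RingHom.ker
        (Algebra.TensorProduct.lmul' (S := P ⧸ Ideal.span (Set.range f)) A)) =
      Ideal.span {Algebra.TensorProduct.map (Ideal.Quotient.mkₐ A (Ideal.span (Set.range f)))
        (AlgHom.id A (P ⧸ Ideal.span (Set.range f))) (Matrix.det c)} :=
  annihilator_ker_lmul_of_exact f (Koszul.exact_of_isKoszulRegularSeq hf) g hgker c hc

end Groth.Agent.Disc12
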