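import Groth.Prelude.Def_Disc
import Mathlib

/-! Duality for finite free algebras: the annihilator of the diagonal, the trace and the different. -/

universe u v

set_option autoImplicit false

open TensorProduct

namespace Groth.Agent.Disc12

variable (A : Type u) (B : Type v) [CommRing A] [CommRing B] [Algebra A B]

/-- The multiplication map. -/
noncomputable abbrev μ : B ⊗[A] B →ₐ[A] B := Algebra.TensorProduct.lmul' (S := B) A

/-- The annihilator of the diagonal ideal. -/
noncomputable def J : Ideal (B ⊗[A] B) := Submodule.annihilator (RingHom.ker (μ A B))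

variable {A B}

theorem mem_J_iff {ξ : B ⊗[A] B} : ξ ∈ J A B ↔ ∀ x : B, (x ⊗ₜ[A] 1) * ξ = (1 ⊗ₜ[A] x) * ξ := by
  constructor
  · intro h x
    have hx : x ⊗ₜ[A] (1 : B) - 1 ⊗ₜ[A] x ∈ RingHom.ker (μ A B) := by simp [RingHom.mem_ker]
    have := Submodule.mem_annihilator.1 h _ hx
    rw [smul_eq_mul, mul_comm, sub_mul, sub_eq_zero] at this
    exact this
  · intro h
    have hle : RingHom.ker (μ A B) ≤ LinearMap.ker (LinearMap.mulLeft (B ⊗[A] B) ξ) := by
      show KaehlerDifferential.ideal A B ≤ _
      rw [← KaehlerDifferential.span_range_eq_ideal, Ideal.span_le]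
      rintro _ ⟨x, rfl⟩
      rw [SetLike.mem_coe, LinearMap.mem_ker, LinearMap.mulLeft_apply, mul_sub, mul_comm ξ, mul_comm ξ,
        ← h x, sub_self]
    exact Submodule.mem_annihilator.2 fun y hy => hle hy

theorem comm_mem_J {ξ : B ⊗[A] B} (h : ξ ∈ J A B) : Algebra.TensorProduct.comm A B B ξ ∈ J A B := by
  rw [mem_J_iff] at h ⊢
  intro x
  have := congrArg (Algebra.TensorProduct.comm A B B) (h x)
  simp only [map_mul, Algebra.TensorProduct.comm_tmul] at this
  exact this.symm

/-- Pairing a functional with the first factor. -/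
noncomputable def pair (l : Disc.Omega A B) : B ⊗[A] B →ₗ[A] B :=
  TensorProduct.lift ((LinearMap.lsmul A B).comp l.toLinearMap)

@[simp] theorem pair_tmul (l : Disc.Omega A B) (b c : B) : pair l (b ⊗ₜ c) = l.toLinearMap b • c := rfl

theorem pair_add (l l' : Disc.Omega A B) (ξ : B ⊗[A] B) : pair (l + l') ξ = pair l ξ + pair l' ξ := by
  induction ξ using TensorProduct.induction_on with
  | zero => simp
  | tmul b c => simp [add_smul]
  | add x y hx hy => simp only [map_add, hx, hy]; abel

theorem pair_smul (x : B) (l : Disc.Omega A B) (ξ : B ⊗[A] B) :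
    pair (x • l) ξ = pair l ((x ⊗ₜ 1) * ξ) := by
  induction ξ using TensorProduct.induction_on with
  | zero => simp
  | tmul b c => simp
  | add y z hy hz => simp only [mul_add, map_add, hy, hz]

theorem pair_mul (x : B) (l : Disc.Omega A B) (ξ : B ⊗[A] B) :
    pair l ((1 ⊗ₜ x) * ξ) = x * pair l ξ := by
  induction ξ using TensorProduct.induction_on with
  | zero => simp
  | tmul b c => simp
  | add y z hy hz => simp only [mul_add, map_add, hy, hz]

/-- The map `ω → B` of an element of the annihilator of the diagonal. -/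
noncomputable def toHom {ξ : B ⊗[A] B} (hξ : ξ ∈ J A B) : Disc.Omega A B →ₗ[B] B where
  toFun l := pair l ξ
  map_add' l l' := pair_add l l' ξ
  map_smul' x l := by rw [pair_smul, (mem_J_iff.1 hξ) x, pair_mul]; rfl

theorem algebraMap_smul_omega (a : A) (l : Disc.Omega A B) (x : B) :
    (algebraMap A B a • l).toLinearMap x = a * l.toLinearMap x := by
  rw [Disc.Omega.smul_toLinearMap_apply, ← Algebra.smul_def, map_smul, smul_eq_mul]

section Basis

variable {ι : Type*} [Fintype ι] (e : Module.Basis ι A B)

/-- Dual basis vector. -/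
noncomputable def coordω (k : ι) : Disc.Omega A B := ⟨e.coord k⟩

theorem sum_pair (ξ : B ⊗[A] B) : ∑ k, e k ⊗ₜ[A] pair (coordω e k) ξ = ξ := by
  induction ξ using TensorProduct.induction_on with
  | zero => simp
  | tmul b c =>
    simp only [pair_tmul, coordω, Module.Basis.coord_apply, TensorProduct.tmul_smul, ← smul_tmul',
      ← TensorProduct.sum_tmul]
    rw [show ∑ k, e.repr b k • (e k ⊗ₜ[A] c) = (∑ k, e.repr b k • e k) ⊗ₜ[A] c by
      rw [TensorProduct.sum_tmul]; rfl, e.sum_repr]
  | add x y hx hy => simp only [map_add, tmul_add, Finset.sum_add_distrib, hx, hy]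

include e in
theorem ext_pair {ξ η : B ⊗[A] B} (h : ∀ l, pair l ξ = pair l η) : ξ = η := by
  rw [← sum_pair e ξ, ← sum_pair e η]
  simp only [h]

theorem omega_eq_sum (l : Disc.Omega A B) :
    l = ∑ k, algebraMap A B (l.toLinearMap (e k)) • coordω e k := by
  have hsum : ∀ (s : Finset ι) (x : B), (∑ k ∈ s, algebraMap A B (l.toLinearMap (e k)) • coordω e k).toLinearMap x =
      ∑ k ∈ s, l.toLinearMap (e k) * e.repr x k := by
    classical
    intro s x
    induction s using Finset.induction_on with
    | empty => simp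
    | insert a t ha ih =>
      rw [Finset.sum_insert ha, Finset.sum_insert ha, Disc.Omega.add_toLinearMap, LinearMap.add_apply, ih,
        algebraMap_smul_omega]
      rfl
  refine Disc.Omega.ext (LinearMap.ext fun x => ?_)
  rw [hsum]
  conv_lhs => rw [← e.sum_repr x, map_sum]
  simp [map_smul, mul_comm]

/-- The element of a linear form on `ω`. -/
noncomputable def ofHom (Φ : Disc.Omega A B →ₗ[B] B) : B ⊗[A] B := ∑ k, e k ⊗ₜ[A] Φ (coordω e k)

theorem pair_ofHom (Φ : Disc.Omega A B →ₗ[B] B) (l : Disc.Omega A B) : pair l (ofHom e Φ) = Φ l := by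
  conv_rhs => rw [omega_eq_sum e l, map_sum]
  simp only [ofHom, map_sum, pair_tmul, map_smul, smul_eq_mul, Algebra.smul_def]

theorem ofHom_mem (Φ : Disc.Omega A B →ₗ[B] B) : ofHom e Φ ∈ J A B :=
  mem_J_iff.2 fun x => ext_pair e fun l => by
    rw [← pair_smul, pair_mul, pair_ofHom, pair_ofHom, map_smul, smul_eq_mul]

include e in
theorem existsUnique_pair (Φ : Disc.Omega A B →ₗ[B] B) :
    ∃! ξ : B ⊗[A] B, ξ ∈ J A B ∧ ∀ l, Φ l = pair l ξ :=
  ⟨ofHom e Φ, ⟨ofHom_mem e Φ, fun l => (pair_ofHom e Φ l).symm⟩,
    fun η hη => ext_pair e fun l => by rw [pair_ofHom, hη.2 l]⟩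

theorem trace_eq_sum [Module.Free A B] [Module.Finite A B] :
    Disc.Omega.trace A B = ∑ k, e k • coordω e k := by
  classical
  have hsum : ∀ (s : Finset ι) (x : B), (∑ k ∈ s, e k • coordω e k).toLinearMap x =
      ∑ k ∈ s, e.repr (e k * x) k := by
    intro s x
    induction s using Finset.induction_on with
    | empty => simp
    | insert a t ha ih =>
      rw [Finset.sum_insert ha, Finset.sum_insert ha, Disc.Omega.add_toLinearMap, LinearMap.add_apply, ih]
      rfl
  refine Disc.Omega.ext (LinearMap.ext fun x => ?_)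
  show Algebra.trace A B x = _
  rw [hsum, Algebra.trace_eq_matrix_trace e, Matrix.trace]
  exact Finset.sum_congr rfl fun k _ => by
    rw [Matrix.diag_apply, Algebra.leftMulMatrix_eq_repr_mul, mul_comm]

end Basis

section Free

variable [Module.Free A B] [Module.Finite A B]

/-- The value at the trace is the image under multiplication. -/
theorem pair_trace {ξ : B ⊗[A] B} (hξ : ξ ∈ J A B) : pair (Disc.Omega.trace A B) ξ = μ A B ξ := by
  let e := Module.Free.chooseBasis A B
  show toHom hξ (Disc.Omega.trace A B) = _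
  rw [trace_eq_sum e, map_sum]
  conv_rhs => rw [← sum_pair e ξ, map_sum]
  simp only [map_smul, smul_eq_mul, μ, Algebra.TensorProduct.lmul'_apply_tmul]
  rfl

omit [Module.Free A B] [Module.Finite A B] in
theorem mem_noetherDifferent_iff {b : B} :
    b ∈ Disc.noetherDifferent A B ↔ ∃ ξ ∈ J A B, μ A B ξ = b :=
  Ideal.mem_map_iff_of_surjective _ fun b => ⟨b ⊗ₜ 1, by simp⟩

theorem noetherDifferent_eq_range :
    (Disc.noetherDifferent A B : Set B) =
      Set.range (fun φ : Disc.Omega A B →ₗ[B] B => φ (Disc.Omega.trace A B)) := by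
  let e := Module.Free.chooseBasis A B
  ext b
  rw [SetLike.mem_coe, mem_noetherDifferent_iff]
  constructor
  · rintro ⟨ξ, hξ, rfl⟩
    exact ⟨toHom hξ, pair_trace hξ⟩
  · rintro ⟨Φ, rfl⟩
    exact ⟨ofHom e Φ, ofHom_mem e Φ, by rw [← pair_trace (ofHom_mem e Φ), pair_ofHom]⟩

theorem mem_differentSet_iff {b : B} :
    b ∈ Disc.differentSet A B ↔ ∀ l : Disc.Omega A B, ∃ c : B, b • l = c • Disc.Omega.trace A B := by
  refine ⟨fun h l => ?_, fun h φ => ?_⟩
  · obtain ⟨c, hc⟩ := h l.toLinearMap
    exact ⟨c, Disc.Omega.ext (LinearMap.ext hc)⟩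
  · obtain ⟨c, hc⟩ := h ⟨φ⟩
    exact ⟨c, fun x => congrArg (fun m : Disc.Omega A B => m.toLinearMap x) hc⟩

/-- The Noether different lies in the different. -/
theorem noetherDifferent_subset_differentSet :
    (Disc.noetherDifferent A B : Set B) ⊆ Disc.differentSet A B := by
  intro b hb
  obtain ⟨ξ, hξ, rfl⟩ := mem_noetherDifferent_iff.1 hb
  intro φ
  refine ⟨pair ⟨φ⟩ ξ, fun x => ?_⟩
  have key : ∀ η : B ⊗[A] B, Algebra.trace A B (pair ⟨φ⟩ η) =
      φ (pair (Disc.Omega.trace A B) (Algebra.TensorProduct.comm A B B η)) := by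
    intro η
    induction η using TensorProduct.induction_on with
    | zero => simp
    | tmul u v => simp [Disc.Omega.trace, mul_comm]
    | add y z hy hz => simp only [map_add, hy, hz]
  rw [mul_comm (pair _ ξ), ← pair_mul, ← (mem_J_iff.1 hξ) x, key, map_mul (Algebra.TensorProduct.comm A B B),
    Algebra.TensorProduct.comm_tmul, pair_mul, pair_trace (comm_mem_J hξ)]
  have : μ A B (Algebra.TensorProduct.comm A B B ξ) = μ A B ξ := by
    clear key hξ hb
    induction ξ using TensorProduct.induction_on with
    | zero => simp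
    | tmul u v => simp [mul_comm]
    | add y z hy hz => simp only [map_add, hy, hz]
  rw [this, mul_comm]

omit [Module.Finite A B] in
theorem eq_zero_of_forall_apply {b : B} (h : ∀ φ : B →ₗ[A] A, φ b = 0) : b = 0 := by
  let e := Module.Free.chooseBasis A B
  exact e.repr.injective (Finsupp.ext fun i => by simpa using h (e.coord i))

/-- Squares of elements of the different lie in the Noether different. -/
theorem sq_mem_noetherDifferent {b : B} (hb : b ∈ Disc.differentSet A B) :
    b * b ∈ Disc.noetherDifferent A B := by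
  have hτ : ∀ c c' : B, c • Disc.Omega.trace A B = c' • Disc.Omega.trace A B → b * c = b * c' := by
    intro c c' h
    rw [← sub_eq_zero, ← mul_sub]
    refine eq_zero_of_forall_apply (A := A) fun φ => ?_
    obtain ⟨d, hd⟩ := hb φ
    rw [hd]
    have := congrArg (fun m : Disc.Omega A B => m.toLinearMap d) h
    simp only [Disc.Omega.smul_toLinearMap_apply, Disc.Omega.trace] at this
    rw [mul_sub, map_sub, mul_comm d c, mul_comm d c', this, sub_self]
  rw [mem_differentSet_iff] at hb
  choose c hc using hb
  let Φ : Disc.Omega A B →ₗ[B] B :=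
    { toFun := fun l => b * c l
      map_add' := fun l l' => by
        rw [← mul_add]
        refine hτ _ _ ?_
        rw [← hc, smul_add, hc, hc, add_smul]
      map_smul' := fun x l => by
        rw [RingHom.id_apply, smul_eq_mul, ← mul_assoc, mul_comm x b, mul_assoc]
        refine hτ _ _ ?_
        rw [← hc, smul_comm, hc, mul_smul] }
  have : b * b ∈ (Disc.noetherDifferent A B : Set B) := by
    rw [noetherDifferent_eq_range]
    exact ⟨Φ, hτ _ _ (hc _).symm⟩
  exact this

theorem differentSet_subset_iff_noether (q : Ideal B) [q.IsPrime] :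
    Disc.differentSet A B ⊆ q ↔ Disc.noetherDifferent A B ≤ q :=
  ⟨fun h => noetherDifferent_subset_differentSet.trans h,
    fun h b hb => (‹q.IsPrime›.mem_or_mem (h (sq_mem_noetherDifferent hb))).elim id id⟩

omit [Module.Free A B] [Module.Finite A B] in
/-- For an invertible module, `Φ x • y = Φ y • x`. -/
theorem smul_comm_of_invertible {R M : Type*} [CommRing R] [AddCommGroup M] [Module R M]
    [Module.Invertible R M] (Φ : M →ₗ[R] R) (x y : M) : Φ x • y = Φ y • x :=
  congrArg (TensorProduct.lift ((LinearMap.lsmul R M).comp Φ)) (Module.Invertible.tmul_comm (m₁ := x) (m₂ := y))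

theorem differentSet_eq_noetherDifferent [Module.Invertible B (Disc.Omega A B)] :
    Disc.differentSet A B = (Disc.noetherDifferent A B : Set B) := by
  refine Set.Subset.antisymm (fun b hb => ?_) noetherDifferent_subset_differentSet
  obtain ⟨t, ht⟩ := (Module.Invertible.bijective (R := B) (M := Disc.Omega A B)).2 1
  have key : ∀ t : Module.Dual B (Disc.Omega A B) ⊗[B] Disc.Omega A B,
      b * contractLeft B (Disc.Omega A B) t ∈ Disc.noetherDifferent A B := by
    intro t
    induction t using TensorProduct.induction_on with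
    | zero => simp
    | tmul Φ x =>
      obtain ⟨c, hc⟩ := mem_differentSet_iff.1 hb x
      show b * Φ x ∈ _
      rw [← smul_eq_mul, ← map_smul, hc, map_smul, smul_eq_mul]
      refine Ideal.mul_mem_left _ _ ?_
      show Φ (Disc.Omega.trace A B) ∈ (Disc.noetherDifferent A B : Set B)
      rw [noetherDifferent_eq_range]
      exact ⟨Φ, rfl⟩
    | add y z hy hz => rw [map_add, mul_add]; exact add_mem hy hz
  simpa [ht] using key t

end Free

end Groth.Agent.Disc12
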