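import Groth.Prelude.Def_Fitting
import Mathlib

/-! The zeroth Fitting ideal of the differentials of a relative global complete intersection. -/

universe u v

set_option autoImplicit false
set_option backward.isDefEq.respectTransparency false

open MvPolynomial KaehlerDifferential

namespace Groth.Agent.Disc12

variable {B : Type u} [CommRing B] {M : Type v} [AddCommGroup M] [Module B M]

/-- The zeroth Fitting ideal of a module with a square presentation. -/
theorem fittIdeal_zero_eq_span {n : ℕ} (x : Fin n → M) (hx : Submodule.span B (Set.range x) = ⊤)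
    (J : Matrix (Fin n) (Fin n) B) (hJ : ∀ i, ∑ j, J i j • x j = 0)
    (hrel : ∀ p : Fin n → B, ∑ j, p j • x j = 0 → ∃ w : Fin n → B, p = Matrix.vecMul w J) :
    Fitt.ideal B M 0 = Ideal.span {J.det} := by
  refine le_antisymm ?_ ?_
  · rw [Fitt.ideal, Ideal.span_le]
    rintro _ ⟨m, y, a, hy, ha, rfl⟩
    replace ha : ∀ i, ∑ j, a i j • y j = 0 := fun i => ha i (by simp)
    have hS : ∀ i, ∃ s : Fin m → B, ∑ k, s k • y k = x i := fun i =>
      (Submodule.mem_span_range_iff_exists_fun B).1 (hy ▸ Submodule.mem_top)
    have hT : ∀ k, ∃ t : Fin n → B, ∑ j, t j • x j = y k := fun k =>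
      (Submodule.mem_span_range_iff_exists_fun B).1 (hx ▸ Submodule.mem_top)
    choose S hS using hS
    choose T hT using hT
    let z : Fin n ⊕ Fin m → M := Sum.elim x y
    let N : Matrix (Fin n ⊕ Fin m) (Fin n ⊕ Fin m) B := Matrix.fromBlocks J 0 (-Matrix.of T) 1
    let Z : Matrix (Fin n ⊕ Fin m) (Fin n ⊕ Fin m) B := Matrix.fromBlocks 1 (-Matrix.of S) 0 a
    have hZ : ∀ i, ∑ j, Z i j • z j = 0 := by
      rintro (i | i)
      · simp [Z, z, Fintype.sum_sum_type, Matrix.one_apply, ite_smul, hS]
      · simp [Z, z, Fintype.sum_sum_type, ha]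
    have hW : ∀ i, ∃ w : Fin n ⊕ Fin m → B, Z i = Matrix.vecMul w N := fun i => by
      let q : Fin m → B := fun k => Z i (.inr k)
      have h0 : ∑ j, (Z i (.inl j) + ∑ k, q k * T k j) • x j = 0 := by
        have := hZ i
        simp only [z, Fintype.sum_sum_type, Sum.elim_inl, Sum.elim_inr, ← hT, Finset.smul_sum, smul_smul] at this
        simp only [add_smul, Finset.sum_add_distrib, Finset.sum_smul]
        rw [Finset.sum_comm (γ := Fin n)]
        exact this
      obtain ⟨w, hw⟩ := hrel _ h0
      refine ⟨Sum.elim w q, funext fun j => ?_⟩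
      rcases j with j | k
      · have := congrFun hw j
        simp only [Matrix.vecMul, dotProduct, Fintype.sum_sum_type, Sum.elim_inl, Sum.elim_inr, N,
          Matrix.fromBlocks_apply₁₁, Matrix.fromBlocks_apply₂₁, Matrix.neg_apply, Matrix.of_apply, mul_neg,
          Finset.sum_neg_distrib] at this ⊢
        rw [← this]
        ring
      · simp [Matrix.vecMul, dotProduct, Fintype.sum_sum_type, N, Matrix.one_apply, q]
    choose W hW using hW
    have hmul : Z = Matrix.of W * N := by
      ext i j
      exact congrFun (hW i) j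
    have hdet := congrArg Matrix.det hmul
    rw [Matrix.det_mul, Matrix.det_fromBlocks_zero₂₁, Matrix.det_fromBlocks_zero₁₂, Matrix.det_one, one_mul,
      Matrix.det_one, mul_one] at hdet
    exact Ideal.mem_span_singleton'.2 ⟨_, hdet.symm⟩
  · rw [Ideal.span_le, Set.singleton_subset_iff]
    exact Ideal.subset_span ⟨n, x, J, hx, fun i _ => hJ i, rfl⟩

variable {A : Type u} [CommRing A] {n : ℕ} [Algebra A B] [Algebra (MvPolynomial (Fin n) A) B]
  [IsScalarTower A (MvPolynomial (Fin n) A) B]

local notation "π" => algebraMap (MvPolynomial (Fin n) A) B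

/-- The generators of the module of differentials. -/
noncomputable def dX (j : Fin n) : Ω[B⁄A] := D A B (π (X j))

theorem D_algebraMap (p : MvPolynomial (Fin n) A) :
    D A B (π p) = ∑ j, π (pderiv j p) • dX (A := A) (B := B) j := by
  induction p using MvPolynomial.induction_on with
  | C a =>
    rw [← MvPolynomial.algebraMap_eq, ← IsScalarTower.algebraMap_apply, Derivation.map_algebraMap]
    exact (Finset.sum_eq_zero fun j _ => by rw [Derivation.map_algebraMap, map_zero, zero_smul]).symm
  | add p q hp hq => simp only [map_add, hp, hq, add_smul, Finset.sum_add_distrib]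
  | mul_X p i hp =>
    rw [map_mul, Derivation.leibniz, hp, Finset.smul_sum]
    simp only [pderiv_mul, pderiv_X, map_add, map_mul, add_smul, Finset.sum_add_distrib, smul_smul]
    rw [add_comm]
    congr 1
    · exact Finset.sum_congr rfl fun j _ => by rw [mul_comm]
    · rw [Finset.sum_eq_single i (fun j _ hj => by simp [Pi.single_eq_of_ne' hj]) (by simp)]
      simp [dX]

theorem span_range_dX (hπ : Function.Surjective π) :
    Submodule.span B (Set.range (dX (A := A) (B := B) (n := n))) = ⊤ := by
  rw [← top_le_iff, ← KaehlerDifferential.span_range_derivation, Submodule.span_le]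
  rintro _ ⟨b, rfl⟩
  obtain ⟨p, rfl⟩ := hπ b
  rw [D_algebraMap]
  exact Submodule.sum_mem _ fun j _ => Submodule.smul_mem _ _ (Submodule.subset_span ⟨j, rfl⟩)

theorem rel_dX (hπ : Function.Surjective π) (f : Fin n → MvPolynomial (Fin n) A)
    (hf : RingHom.ker π = Ideal.span (Set.range f)) (p : Fin n → B) (hp : ∑ j, p j • dX (A := A) (B := B) j = 0) :
    ∃ w, p = Matrix.vecMul w (Matrix.of fun i j => π (pderiv j (f i))) := by
  let J : Matrix (Fin n) (Fin n) B := Matrix.of fun i j => π (pderiv j (f i))
  let N := (Fin n → B) ⧸ Submodule.span B (Set.range J.row)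
  let e : Fin n → N := fun j => Submodule.Quotient.mk (Pi.single j 1)
  let D0 : Derivation A (MvPolynomial (Fin n) A) N := mkDerivation A e
  have hD0 : ∀ r, D0 r = ∑ j, π (pderiv j r) • e j := fun r => by
    induction r using MvPolynomial.induction_on with
    | C a =>
      rw [← MvPolynomial.algebraMap_eq, Derivation.map_algebraMap]
      exact (Finset.sum_eq_zero fun j _ => by rw [Derivation.map_algebraMap, map_zero, zero_smul]).symm
    | add p q hp hq => simp only [map_add, hp, hq, add_smul, Finset.sum_add_distrib]
    | mul_X p i hp =>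
      rw [Derivation.leibniz, hp, mkDerivation_X, Finset.smul_sum]
      simp only [pderiv_mul, pderiv_X, map_add, map_mul, add_smul, Finset.sum_add_distrib]
      rw [add_comm]
      congr 1
      · exact Finset.sum_congr rfl fun j _ => by rw [mul_comm, mul_smul, algebraMap_smul, algebraMap_smul]
      · rw [Finset.sum_eq_single i (fun j _ hj => by simp [Pi.single_eq_of_ne' hj]) (by simp)]
        rw [Pi.single_eq_same, map_one, mul_one, algebraMap_smul]
  have hker : ∀ r, π r = 0 → D0 r = 0 := by
    intro r hr
    rw [← RingHom.mem_ker, hf] at hr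
    induction hr using Submodule.span_induction with
    | mem r hr =>
      obtain ⟨i, rfl⟩ := hr
      rw [hD0]
      have hrow : ∑ j, π (pderiv j (f i)) • (Pi.single j 1 : Fin n → B) = J.row i := by
        funext k
        simp [Finset.sum_apply, Pi.single_apply, J, Algebra.smul_def]
      rw [show ∑ j, π (pderiv j (f i)) • e j = Submodule.Quotient.mk (J.row i) by
        rw [← hrow]; simp [e, Submodule.Quotient.mk_smul, ← Submodule.mkQ_apply, map_sum],
        Submodule.Quotient.mk_eq_zero]
      exact Submodule.subset_span ⟨i, rfl⟩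
    | zero => exact map_zero _
    | add a b _ _ ha hb => rw [map_add, ha, hb, add_zero]
    | smul c a ha' ha =>
      rw [smul_eq_mul, Derivation.leibniz, ha, smul_zero, zero_add, ← algebraMap_smul B a]
      exact (congrArg (fun b : B => b • D0 c) (show π a = 0 from RingHom.mem_ker.1 (hf.ge ha'))).trans (zero_smul _ _)
  let s := Function.surjInv hπ
  have hs : ∀ b, π (s b) = b := Function.surjInv_eq hπ
  have hwd : ∀ r, D0 (s (π r)) = D0 r := fun r => by
    rw [← sub_eq_zero, ← map_sub]
    exact hker _ (by rw [map_sub, hs, sub_self])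
  let L : B →ₗ[A] N :=
    { toFun := fun b => D0 (s b)
      map_add' := fun a b => by
        obtain ⟨a, rfl⟩ := hπ a
        obtain ⟨b, rfl⟩ := hπ b
        rw [← map_add, hwd, hwd, hwd, map_add]
      map_smul' := fun c b => by
        obtain ⟨b, rfl⟩ := hπ b
        rw [show c • π b = π (c • b) from (map_smul (IsScalarTower.toAlgHom A (MvPolynomial (Fin n) A) B) c b).symm,
          hwd, hwd, Derivation.map_smul]
        rfl }
  let D' : Derivation A B N := Derivation.mk' L fun a b => by
    obtain ⟨a, rfl⟩ := hπ a
    obtain ⟨b, rfl⟩ := hπ b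
    show D0 (s (π a * π b)) = π a • D0 (s (π b)) + π b • D0 (s (π a))
    rw [← map_mul, hwd, hwd, hwd, Derivation.leibniz, algebraMap_smul, algebraMap_smul]
  have hl : ∀ j, D'.liftKaehlerDifferential (dX j) = e j := fun j => by
    rw [dX, Derivation.liftKaehlerDifferential_comp_D]
    exact (hwd _).trans (mkDerivation_X A e j)
  have h0 := congrArg D'.liftKaehlerDifferential hp
  rw [map_sum, map_zero] at h0
  simp only [map_smul, hl] at h0
  have hmem : p ∈ Submodule.span B (Set.range J.row) := by
    rw [← Submodule.Quotient.mk_eq_zero]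
    have hpe : p = ∑ j, p j • (Pi.single j 1 : Fin n → B) := by
      funext k
      simp [Finset.sum_apply, Pi.single_apply]
    rw [hpe]
    simpa [e, Submodule.Quotient.mk_smul, ← Submodule.mkQ_apply, map_sum] using h0
  obtain ⟨w, hw⟩ := (Submodule.mem_span_range_iff_exists_fun B).1 hmem
  refine ⟨w, hw.symm.trans ?_⟩
  funext k
  simp [Matrix.vecMul, dotProduct, Finset.sum_apply, J]

theorem fitt_kaehler_of_surjective (hπ : Function.Surjective π) (f : Fin n → MvPolynomial (Fin n) A)
    (hf : RingHom.ker π = Ideal.span (Set.range f)) :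
    Fitt.ideal B Ω[B⁄A] 0 = Ideal.span {π (Matrix.det (Matrix.of fun i j => pderiv j (f i)))} := by
  rw [fittIdeal_zero_eq_span dX (span_range_dX hπ) (Matrix.of fun i j => π (pderiv j (f i))) (fun i => ?_)
    (rel_dX hπ f hf), RingHom.map_det]
  · rfl
  · have hi : π (f i) = 0 := by
      rw [← RingHom.mem_ker, hf]
      exact Ideal.subset_span (Set.mem_range_self i)
    have := D_algebraMap (B := B) (f i)
    rw [hi, map_zero] at this
    exact this.symm

end Groth.Agent.Disc12
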