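import Groth.Agent.Disc12.Koszul.Regular
import Groth.Agent.FlatMorSlice.CM
import Groth.Agent.DimLib.Algebra
import Groth.Agent.CAlgH3.RegularCore

/-! Quasi-finite relative complete intersections in affine space: flatness and Koszul regularity. -/

universe u

set_option autoImplicit false
set_option backward.isDefEq.respectTransparency false

open MvPolynomial TensorProduct

namespace Groth.Agent.Disc12

variable {A : Type u} [CommRing A] {n : ℕ}

theorem exists_scalar_mul_eq_map (p : Ideal A) [p.IsPrime] (z : MvPolynomial (Fin n) p.ResidueField) :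
    ∃ s ∉ p, ∃ b : MvPolynomial (Fin n) A,
      MvPolynomial.map (algebraMap A p.ResidueField) (C s) * z = MvPolynomial.map (algebraMap A p.ResidueField) b := by
  induction z using MvPolynomial.induction_on with
  | C κ =>
    obtain ⟨⟨x, s, hs⟩, e⟩ := IsLocalization.surj (nonZeroDivisors (A ⧸ p)) κ
    obtain ⟨a, rfl⟩ := Ideal.Quotient.mk_surjective x
    obtain ⟨s, rfl⟩ := Ideal.Quotient.mk_surjective s
    refine ⟨s, fun h => nonZeroDivisors.ne_zero hs (Ideal.Quotient.eq_zero_iff_mem.2 h), C a, ?_⟩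
    rw [map_C, map_C, ← C_mul, mul_comm]
    exact congrArg C e
  | add z w hz hw =>
    obtain ⟨s, hs, b, hb⟩ := hz
    obtain ⟨t, ht, c, hc⟩ := hw
    refine ⟨s * t, p.primeCompl.mul_mem hs ht, C t * b + C s * c, ?_⟩
    simp only [map_add, map_mul, ← hb, ← hc]
    ring
  | mul_X z i hz =>
    obtain ⟨s, hs, b, hb⟩ := hz
    refine ⟨s, hs, b * X i, ?_⟩
    rw [map_mul, ← hb, map_X, mul_assoc]

/-- The map to the fibre. -/
noncomputable def fibMap (n : ℕ) (p : Ideal A) [p.IsPrime] :
    MvPolynomial (Fin n) A →+* MvPolynomial (Fin n) p.ResidueField :=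
  MvPolynomial.map (algebraMap A p.ResidueField)

theorem fibMap_ker (p : Ideal A) [p.IsPrime] (b : MvPolynomial (Fin n) A) (hb : fibMap n p b = 0) :
    b ∈ p.map (algebraMap A (MvPolynomial (Fin n) A)) := by
  rw [MvPolynomial.algebraMap_eq, MvPolynomial.mem_map_C_iff]
  intro d
  have := congrArg (MvPolynomial.coeff d) hb
  rwa [fibMap, MvPolynomial.coeff_map, coeff_zero, ← RingHom.mem_ker, Ideal.ker_algebraMap_residueField] at this

theorem exists_prime_over_mvPolynomial (q : Ideal (MvPolynomial (Fin n) A)) [q.IsPrime] :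
    ∃ qb : Ideal (MvPolynomial (Fin n) (q.under A).ResidueField), qb.IsPrime ∧
      ∀ b, fibMap n (q.under A) b ∈ qb ↔ b ∈ q := by
  let θ : MvPolynomial (Fin n) (q.under A).ResidueField →+* q.ResidueField :=
    eval₂Hom (Ideal.ResidueField.map (q.under A) q (algebraMap A (MvPolynomial (Fin n) A)) (q.under_def A))
      fun i => algebraMap (MvPolynomial (Fin n) A) q.ResidueField (X i)
  refine ⟨RingHom.ker θ, RingHom.ker_isPrime θ, fun b => ?_⟩
  have hθφ : θ.comp (fibMap n (q.under A)) = algebraMap (MvPolynomial (Fin n) A) q.ResidueField := by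
    refine MvPolynomial.ringHom_ext (fun a => ?_) fun i => ?_
    · rw [RingHom.comp_apply, fibMap, map_C, eval₂Hom_C, Ideal.ResidueField.map_algebraMap]
      rfl
    · rw [RingHom.comp_apply, fibMap, map_X, eval₂Hom_X']
  rw [RingHom.mem_ker, ← RingHom.comp_apply, hθφ, ← RingHom.mem_ker, Ideal.ker_algebraMap_residueField]

theorem fibPres (p : Ideal A) [p.IsPrime] (q : Ideal (MvPolynomial (Fin n) A)) [q.IsPrime]
    (hp : q.under A = p) (qb : Ideal (MvPolynomial (Fin n) p.ResidueField)) [qb.IsPrime]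
    (hcomap : ∀ b, fibMap n p b ∈ qb ↔ b ∈ q) :
    FlatMorSlice.FibPres A q ((algebraMap _ (Localization.AtPrime qb)).comp (fibMap n p)) := by
  subst hp
  have hconst : ∀ s ∉ q.under A, (C s : MvPolynomial (Fin n) A) ∉ q := fun s hs h => hs h
  refine ⟨fun c hc => ?_, fun r => ?_, fun b hb => ?_, ?_⟩
  · exact IsLocalization.map_units _ (⟨fibMap n _ c, fun h => hc ((hcomap c).1 h)⟩ : qb.primeCompl)
  · obtain ⟨⟨z, w, hw⟩, hzw⟩ := IsLocalization.surj qb.primeCompl r
    obtain ⟨s, hs, b, hb⟩ := exists_scalar_mul_eq_map (q.under A) z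
    obtain ⟨t, ht, c, hc⟩ := exists_scalar_mul_eq_map (q.under A) w
    have hcq : c ∉ q := fun h => by
      have h1 : fibMap n _ (C t) * w ∈ qb := by rw [fibMap, hc]; exact (hcomap c).2 h
      exact ((inferInstance : qb.IsPrime).mem_or_mem h1).elim (fun h2 => hconst t ht ((hcomap _).1 h2)) hw
    refine ⟨C t * b, C s * c, q.primeCompl.mul_mem (hconst s hs) hcq, ?_⟩
    simp only [RingHom.comp_apply, fibMap, map_mul, ← hb, ← hc]
    simp only [map_mul] at hzw ⊢
    rw [← hzw]
    ring
  · obtain ⟨⟨z, hz⟩, hz0⟩ := (IsLocalization.map_eq_zero_iff qb.primeCompl (Localization.AtPrime qb) (fibMap n _ b)).1 hb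
    obtain ⟨s, hs, c, hc⟩ := exists_scalar_mul_eq_map (q.under A) z
    have hcq : c ∉ q := fun h => by
      have h1 : fibMap n _ (C s) * z ∈ qb := by rw [fibMap, hc]; exact (hcomap c).2 h
      exact ((inferInstance : qb.IsPrime).mem_or_mem h1).elim (fun h2 => hconst s hs ((hcomap _).1 h2)) hz
    refine ⟨c, hcq, fibMap_ker _ _ ?_⟩
    rw [map_mul, show fibMap n _ c = fibMap n _ (C s) * z from hc.symm, mul_assoc]
    exact mul_eq_zero_of_right _ hz0
  · rw [Ideal.map_le_iff_le_comap]
    intro a ha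
    show algebraMap _ (Localization.AtPrime qb) (fibMap n (q.under A) (C a)) = 0
    rw [fibMap, map_C, show algebraMap A (q.under A).ResidueField a = 0 from Ideal.algebraMap_residueField_eq_zero.2 ha,
      map_zero, map_zero]

variable (f : Fin n → MvPolynomial (Fin n) A)

theorem finite_fibre [Algebra.QuasiFinite A (MvPolynomial (Fin n) A ⧸ Ideal.span (Set.range f))]
    (p : Ideal A) [p.IsPrime] :
    Module.Finite p.ResidueField
      (MvPolynomial (Fin n) p.ResidueField ⧸ Ideal.span (Set.range fun i => fibMap n p (f i))) := by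
  let If : Ideal (MvPolynomial (Fin n) p.ResidueField) := Ideal.span (Set.range fun i => fibMap n p (f i))
  let φ₁ : MvPolynomial (Fin n) A →ₐ[A] MvPolynomial (Fin n) p.ResidueField ⧸ If :=
    (Ideal.Quotient.mkₐ A If).comp ⟨fibMap n p, fun a => by simp [fibMap, MvPolynomial.algebraMap_eq]⟩
  have hker : ∀ a ∈ Ideal.span (Set.range f), φ₁ a = 0 := fun a ha => by
    have hle : Ideal.span (Set.range f) ≤ RingHom.ker φ₁ := Ideal.span_le.2 (by
      rintro _ ⟨i, rfl⟩
      exact Ideal.Quotient.eq_zero_iff_mem.2 (Ideal.subset_span ⟨i, rfl⟩))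
    exact hle ha
  let g := Ideal.Quotient.liftₐ (Ideal.span (Set.range f)) φ₁ hker
  let G : p.Fiber (MvPolynomial (Fin n) A ⧸ Ideal.span (Set.range f)) →ₐ[p.ResidueField] MvPolynomial (Fin n) p.ResidueField ⧸ If :=
    Algebra.TensorProduct.lift (Algebra.ofId p.ResidueField _) g fun _ _ => Commute.all _ _
  have h2 : (Ideal.Quotient.mkₐ p.ResidueField If).range ≤ G.range := by
    rw [← Algebra.map_top, ← MvPolynomial.adjoin_range_X, AlgHom.map_adjoin, Algebra.adjoin_le_iff]
    rintro _ ⟨_, ⟨i, rfl⟩, rfl⟩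
    refine ⟨(1 : p.ResidueField) ⊗ₜ (Ideal.Quotient.mk _ (X i)), ?_⟩
    simp [G, g, φ₁, fibMap]
  refine Module.Finite.of_surjective G.toLinearMap fun y => ?_
  obtain ⟨z, rfl⟩ := Ideal.Quotient.mk_surjective y
  exact h2 ⟨z, rfl⟩

theorem ringKrullDim_quotient_eq_zero {S : Type u} [CommRing S] (qb : Ideal S) [qb.IsPrime] (If : Ideal S)
    (hIf : If ≤ qb) (hmax : ∀ Q : Ideal S, Q.IsPrime → If ≤ Q → Q.IsMaximal) :
    ringKrullDim (Localization.AtPrime qb ⧸ If.map (algebraMap S (Localization.AtPrime qb))) = 0 := by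
  let R := Localization.AtPrime qb
  let J₀ : Ideal R := If.map (algebraMap S R)
  have hJ₀ : J₀ ≤ IsLocalRing.maximalIdeal R := by
    rw [← Localization.AtPrime.map_eq_maximalIdeal]
    exact Ideal.map_mono hIf
  haveI : Nontrivial (R ⧸ J₀) := Ideal.Quotient.nontrivial_iff.2
    (ne_top_of_le_ne_top (IsLocalRing.maximalIdeal.isMaximal R).ne_top hJ₀)
  haveI : Ring.KrullDimLE 0 (R ⧸ J₀) := Ring.krullDimLE_zero_iff.2 fun J hJ => by
    let K := J.comap (Ideal.Quotient.mk J₀)
    have hJ₀K : J₀ ≤ K := fun x hx => by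
      rw [Ideal.mem_comap, Ideal.Quotient.eq_zero_iff_mem.2 hx]; exact zero_mem _
    have hle : K.comap (algebraMap _ R) ≤ qb := fun z hz => by
      by_contra hzq
      exact (inferInstance : K.IsPrime).ne_top (Ideal.eq_top_of_isUnit_mem _ hz
        (IsLocalization.map_units R (⟨z, hzq⟩ : qb.primeCompl)))
    have heq := (hmax _ inferInstance (Ideal.map_le_iff_le_comap.1 hJ₀K)).eq_of_le (Ideal.IsPrime.ne_top inferInstance) hle
    have hK : K = IsLocalRing.maximalIdeal R := by
      rw [← IsLocalization.map_comap qb.primeCompl R K, Ideal.under_def, heq]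
      exact Localization.AtPrime.map_eq_maximalIdeal
    rw [← Ideal.map_comap_of_surjective _ Ideal.Quotient.mk_surjective J]
    refine (Ideal.map_eq_top_or_isMaximal_of_surjective _ Ideal.Quotient.mk_surjective
      (show K.IsMaximal by rw [hK]; infer_instance)).resolve_left fun h' => hJ.ne_top ?_
    rwa [Ideal.map_comap_of_surjective _ Ideal.Quotient.mk_surjective] at h'
  exact ringKrullDimZero_iff_ringKrullDim_eq_zero.1 inferInstance

theorem isSMulRegular_of_finite {k : Type u} [Field k] (h : Fin n → MvPolynomial (Fin n) k)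
    [Module.Finite k (MvPolynomial (Fin n) k ⧸ Ideal.span (Set.range h))]
    (qb : Ideal (MvPolynomial (Fin n) k)) [qb.IsPrime] (hqb : Ideal.span (Set.range h) ≤ qb)
    (t : Finset (Fin n)) (j : Fin n) (hj : j ∉ t) :
    IsSMulRegular (Localization.AtPrime qb ⧸
        Ideal.span ((fun i => algebraMap _ (Localization.AtPrime qb) (h i)) '' (t : Set (Fin n))))
      (algebraMap _ (Localization.AtPrime qb) (h j)) := by
  let g : Fin n → Localization.AtPrime qb := fun i => algebraMap _ _ (h i)
  haveI : IsArtinianRing (MvPolynomial (Fin n) k ⧸ Ideal.span (Set.range h)) := IsArtinianRing.of_finite k _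
  have hprimes : ∀ Q : Ideal (MvPolynomial (Fin n) k), Q.IsPrime → Ideal.span (Set.range h) ≤ Q → Q.IsMaximal := by
    intro Q hQ hle
    haveI : (Q.map (Ideal.Quotient.mk (Ideal.span (Set.range h)))).IsPrime :=
      Ideal.map_isPrime_of_surjective Ideal.Quotient.mk_surjective (by rw [Ideal.mk_ker]; exact hle)
    haveI := IsArtinianRing.isMaximal_of_isPrime (Q.map (Ideal.Quotient.mk (Ideal.span (Set.range h))))
    have := Ideal.comap_isMaximal_of_surjective _ Ideal.Quotient.mk_surjective
      (K := Q.map (Ideal.Quotient.mk (Ideal.span (Set.range h))))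
    rwa [Ideal.comap_map_of_surjective _ Ideal.Quotient.mk_surjective, ← RingHom.ker_eq_comap_bot, Ideal.mk_ker,
      sup_eq_left.2 hle] at this
  haveI := hprimes qb inferInstance hqb
  haveI : IsRegularRing k := inferInstance
  haveI : IsRegularRing (MvPolynomial (Fin n) k) := MvPolynomial.isRegularRing_of_isRegularRing k
  haveI : IsRegularLocalRing (Localization.AtPrime qb) := IsRegularRing.isRegularLocalRing_localization qb
  haveI : LocCoh.IsCohenMacaulayLocalRing (Localization.AtPrime qb) := CAlgH3.isCohenMacaulayLocalRing_of_regular _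
  have hgm : ∀ i, g i ∈ IsLocalRing.maximalIdeal (Localization.AtPrime qb) := fun i => by
    rw [← Localization.AtPrime.map_eq_maximalIdeal]
    exact Ideal.mem_map_of_mem _ (hqb (Ideal.subset_span ⟨i, rfl⟩))
  have hn : ringKrullDim (Localization.AtPrime qb) = Fintype.card (Fin n) := by
    rw [IsLocalization.AtPrime.ringKrullDim_eq_height qb (Localization.AtPrime qb),
      DimLib.height_eq_of_isMaximal_mvPolynomial n qb, Fintype.card_fin]
    rfl
  have hdim : ringKrullDim (Localization.AtPrime qb ⧸ Ideal.span (Set.range g)) = 0 := by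
    rw [show Ideal.span (Set.range g) = (Ideal.span (Set.range h)).map (algebraMap _ (Localization.AtPrime qb)) by
      rw [Ideal.map_span, ← Set.range_comp]; rfl]
    exact ringKrullDim_quotient_eq_zero qb _ hqb hprimes
  exact CAlgH3.isSMulRegular_of_isSystemOfParameters g hgm hn hdim t j hj

theorem fibReg_of_quasiFinite [Algebra.QuasiFinite A (MvPolynomial (Fin n) A ⧸ Ideal.span (Set.range f))]
    (q : Ideal (MvPolynomial (Fin n) A)) [q.IsPrime] (hfq : Ideal.span (Set.range f) ≤ q) :
    FlatMorSlice.FibReg A q (List.ofFn f) := by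
  obtain ⟨qb, hqb, hcomap⟩ := exists_prime_over_mvPolynomial q
  have hpres := fibPres (q.under A) q rfl qb hcomap
  have hIf : Ideal.span (Set.range fun i => fibMap n (q.under A) (f i)) ≤ qb := Ideal.span_le.2 (by
    rintro _ ⟨i, rfl⟩
    exact (hcomap _).2 (hfq (Ideal.subset_span ⟨i, rfl⟩)))
  intro i hi x hx
  have hi' : i < n := by simpa using hi
  let t : Finset (Fin n) := Finset.univ.filter (fun j => (j : ℕ) < i)
  let g : Fin n → Localization.AtPrime qb := fun i => algebraMap _ _ (fibMap n (q.under A) (f i))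
  have hmap : (Ideal.ofList ((List.ofFn f).take i)).map ((algebraMap _ _).comp (fibMap n (q.under A))) =
      Ideal.span (g '' (t : Set (Fin n))) := by
    rw [Ideal.map_ofList]
    refine congrArg Ideal.span (Set.ext fun y => ?_)
    simp only [Set.mem_ofPred_eq, List.mem_map, List.mem_take_iff_getElem, List.getElem_ofFn,
      List.length_ofFn, Set.mem_image, Finset.mem_coe, t, Finset.mem_filter, Finset.mem_univ, true_and]
    constructor
    · rintro ⟨_, ⟨j, hj, rfl⟩, rfl⟩
      exact ⟨⟨j, by omega⟩, by simp; omega, rfl⟩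
    · rintro ⟨⟨j, hj⟩, hji, rfl⟩
      exact ⟨_, ⟨j, by simp at hji; omega, rfl⟩, rfl⟩
  haveI := finite_fibre f (q.under A)
  have hreg := isSMulRegular_of_finite (fun j => fibMap n (q.under A) (f j)) qb hIf t ⟨i, hi'⟩ (by simp [t])
  rw [← hpres.mem_map_iff, map_mul, hmap, List.getElem_ofFn] at hx
  rw [← hpres.mem_map_iff, hmap, ← Ideal.Quotient.eq_zero_iff_mem]
  refine hreg ?_
  exact (Ideal.Quotient.eq_zero_iff_mem.2 hx).trans (smul_zero _).symm

theorem flat_and_exact_of_quasiFinite [Algebra.QuasiFinite A (MvPolynomial (Fin n) A ⧸ Ideal.span (Set.range f))] :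
    Module.Flat A (MvPolynomial (Fin n) A ⧸ Ideal.span (Set.range f)) ∧
      ∀ p, Function.Exact (Koszul.d f (p + 1)) (Koszul.d f p) := by
  let P := MvPolynomial (Fin n) A
  let I : Ideal P := Ideal.span (Set.range f)
  have hI : Ideal.ofList (List.ofFn f) = I := by
    rw [Ideal.ofList]
    congr 1
    ext y
    exact List.mem_ofFn
  have key : ∀ (q : Ideal P) [q.IsPrime], I ≤ q → ∃ c ∉ q,
      (∀ (i : ℕ) (hi : i < (List.ofFn f).length) (x : P), (List.ofFn f)[i] * x ∈ Ideal.ofList ((List.ofFn f).take i) →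
        ∃ k : ℕ, c ^ k * x ∈ Ideal.ofList ((List.ofFn f).take i)) ∧
      ∀ (r : Ideal P) [r.IsPrime], c ∉ r → Module.Flat A (LocalizedModule r.primeCompl (P ⧸ I)) := by
    intro q hq hIq
    haveI : Module.Flat P (LocalizedModule q.primeCompl P) := inferInstance
    obtain ⟨c, hc, h1, h2⟩ := FlatMorSlice.exists_regular_sequence (A := A) ⟨q, hq⟩
      (Module.Flat.trans A P (LocalizedModule q.primeCompl P)) (List.ofFn f)
      (fibReg_of_quasiFinite f q hIq)
    refine ⟨c, hc, h1, fun r _ hr => ?_⟩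
    have := h2 r hr
    rw [hI] at this
    exact this
  refine ⟨?_, fun p => Koszul.exact_of_local f (fun m hm hIm => ?_) p⟩
  · refine Module.flat_of_isLocalized_maximal (S := P) (M := P ⧸ I)
      (Mₚ := fun m [m.IsMaximal] => LocalizedModule m.primeCompl (P ⧸ I))
      (f := fun m [m.IsMaximal] => LocalizedModule.mkLinearMap m.primeCompl (P ⧸ I)) fun m hm => ?_
    by_cases hIm : I ≤ m
    · obtain ⟨c, hc, -, h⟩ := key m hIm
      exact h m hc
    · obtain ⟨i, hi, him⟩ := SetLike.not_le_iff_exists.1 hIm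
      haveI : Subsingleton (LocalizedModule m.primeCompl (P ⧸ I)) := LocalizedModule.subsingleton_iff.2 fun x => by
        obtain ⟨x, rfl⟩ := Ideal.Quotient.mk_surjective x
        exact ⟨i, him, by
          show Ideal.Quotient.mk I (i * x) = 0
          exact Ideal.Quotient.eq_zero_iff_mem.2 (I.mul_mem_right _ hi)⟩
      exact Module.Flat.of_free
  · obtain ⟨c, hc, hreg, -⟩ := key m hIm
    refine ⟨c, hc, Koszul.exactUpTo_of_regular c f fun i r hr => ?_⟩
    have hset : Ideal.span (f '' Set.Iio i) = Ideal.ofList ((List.ofFn f).take i) := by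
      refine congrArg Ideal.span (Set.ext fun y => ?_)
      simp only [Set.mem_image, Set.mem_Iio, Set.mem_ofPred_eq, List.mem_take_iff_getElem, List.getElem_ofFn,
        List.length_ofFn]
      constructor
      · rintro ⟨j, hj, rfl⟩
        exact ⟨j, by omega, rfl⟩
      · rintro ⟨j, hj, rfl⟩
        exact ⟨⟨j, by omega⟩, by show j < (i : ℕ); omega, rfl⟩
    rw [hset] at hr ⊢
    exact hreg i (by simp) r (by rwa [List.getElem_ofFn])

end Groth.Agent.Disc12
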