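import Groth.Agent.Disc12.ColonDiff
import Groth.Agent.Disc12.RelCI
import Groth.Agent.Disc12.Duality

/-! The Noether different of a quasi-finite global complete intersection. -/

universe u

set_option autoImplicit false
set_option backward.isDefEq.respectTransparency false

open MvPolynomial TensorProduct

namespace Groth.Agent.Disc12

variable {A : Type u} [CommRing A] {n : ℕ} {B : Type u} [CommRing B] [Algebra A B]
  (π : MvPolynomial (Fin n) A →ₐ[A] B)

/-- The generators of the diagonal. -/
noncomputable def diag (j : Fin n) : MvPolynomial (Fin n) A ⊗[A] B := X j ⊗ₜ 1 - 1 ⊗ₜ π (X j)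

/-- The partial derivative followed by the product map. -/
noncomputable def diagDeriv (j : Fin n) : MvPolynomial (Fin n) A ⊗[A] B →ₗ[A] B :=
  (Algebra.TensorProduct.productMap π (AlgHom.id A B)).toLinearMap ∘ₗ
    LinearMap.rTensor B (pderiv j).toLinearMap

theorem diagDeriv_mul (j : Fin n) (r s : MvPolynomial (Fin n) A ⊗[A] B) :
    diagDeriv π j (r * s) = Algebra.TensorProduct.productMap π (AlgHom.id A B) r * diagDeriv π j s +
      Algebra.TensorProduct.productMap π (AlgHom.id A B) s * diagDeriv π j r := by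
  induction r using TensorProduct.induction_on with
  | zero => simp
  | add x y hx hy => simp only [add_mul, map_add, hx, hy, mul_add]; ring
  | tmul p b =>
    induction s using TensorProduct.induction_on with
    | zero => simp
    | add x y hx hy => simp only [mul_add, map_add, hx, hy, add_mul]; ring
    | tmul q c =>
      simp [diagDeriv, pderiv_mul, TensorProduct.add_tmul]
      ring

theorem diagDeriv_diag (j k : Fin n) : diagDeriv π j (diag π k) = if k = j then 1 else 0 := by
  rcases eq_or_ne k j with rfl | h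
  · simp [diagDeriv, diag]
  · simp [diagDeriv, diag, pderiv_X, Pi.single_eq_of_ne' h, h]

theorem span_diag : Ideal.span (Set.range (diag π)) =
    RingHom.ker (Algebra.TensorProduct.productMap π (AlgHom.id A B)) := by
  refine le_antisymm (Ideal.span_le.2 ?_) fun r hr => ?_
  · rintro _ ⟨j, rfl⟩
    simp [diag]
  have hp : ∀ p : MvPolynomial (Fin n) A, p ⊗ₜ[A] (1 : B) - 1 ⊗ₜ π p ∈ Ideal.span (Set.range (diag π)) := by
    intro p
    induction p using MvPolynomial.induction_on with
    | C a =>
      rw [show C a ⊗ₜ[A] (1 : B) - 1 ⊗ₜ π (C a) = 0 by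
        rw [← MvPolynomial.algebraMap_eq, AlgHom.commutes, Algebra.algebraMap_eq_smul_one,
          Algebra.algebraMap_eq_smul_one, TensorProduct.smul_tmul, sub_self]]
      exact zero_mem _
    | add p q hp hq =>
      rw [show (p + q) ⊗ₜ[A] (1 : B) - 1 ⊗ₜ π (p + q) = (p ⊗ₜ 1 - 1 ⊗ₜ π p) + (q ⊗ₜ 1 - 1 ⊗ₜ π q) by
        rw [TensorProduct.add_tmul, map_add, TensorProduct.tmul_add]; abel]
      exact add_mem hp hq
    | mul_X p i hp =>
      rw [show (p * X i) ⊗ₜ[A] (1 : B) - 1 ⊗ₜ π (p * X i) =
          (X i ⊗ₜ 1) * (p ⊗ₜ 1 - 1 ⊗ₜ π p) + (1 ⊗ₜ π p) * diag π i by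
        rw [diag, mul_sub, mul_sub]
        simp only [Algebra.TensorProduct.tmul_mul_tmul, map_mul, one_mul, mul_one]
        rw [mul_comm (X i) p]
        abel]
      exact add_mem (Ideal.mul_mem_left _ _ hp) (Ideal.mul_mem_left _ _ (Ideal.subset_span ⟨i, rfl⟩))
  have hall : ∀ r, r - 1 ⊗ₜ Algebra.TensorProduct.productMap π (AlgHom.id A B) r ∈
      Ideal.span (Set.range (diag π)) := by
    intro r
    induction r using TensorProduct.induction_on with
    | zero => simp
    | tmul p b =>
      rw [show p ⊗ₜ[A] b - 1 ⊗ₜ Algebra.TensorProduct.productMap π (AlgHom.id A B) (p ⊗ₜ[A] b) =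
        (1 ⊗ₜ b) * (p ⊗ₜ 1 - 1 ⊗ₜ π p) by
        rw [mul_sub]
        simp [mul_comm b]]
      exact Ideal.mul_mem_left _ _ (hp p)
    | add x y hx hy =>
      rw [map_add, TensorProduct.tmul_add, show x + y - (1 ⊗ₜ[A] Algebra.TensorProduct.productMap π (AlgHom.id A B) x +
        1 ⊗ₜ Algebra.TensorProduct.productMap π (AlgHom.id A B) y) =
        (x - 1 ⊗ₜ Algebra.TensorProduct.productMap π (AlgHom.id A B) x) +
        (y - 1 ⊗ₜ Algebra.TensorProduct.productMap π (AlgHom.id A B) y) by abel]
      exact add_mem hx hy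
  have := hall r
  rwa [RingHom.mem_ker.1 hr, TensorProduct.tmul_zero, sub_zero] at this

section Quotient

variable (f : Fin n → MvPolynomial (Fin n) A)

local notation "B₀" => MvPolynomial (Fin n) A ⧸ Ideal.span (Set.range f)

theorem productMap_det_eq (c : Fin n → Fin n → MvPolynomial (Fin n) A ⊗[A] B₀)
    (hc : ∀ i, ∑ j, c i j * diag (Ideal.Quotient.mkₐ A (Ideal.span (Set.range f))) j = f i ⊗ₜ 1) :
    Algebra.TensorProduct.productMap (Ideal.Quotient.mkₐ A (Ideal.span (Set.range f))) (AlgHom.id A B₀)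
      (Matrix.det (Matrix.of c)) =
      Ideal.Quotient.mk (Ideal.span (Set.range f)) (Matrix.det (Matrix.of fun i j => pderiv j (f i))) := by
  let π := Ideal.Quotient.mkₐ A (Ideal.span (Set.range f))
  replace hc : ∀ i, ∑ j, c i j * diag π j = f i ⊗ₜ[A] (1 : B₀) := hc
  have hval : ∀ i k, Algebra.TensorProduct.productMap π (AlgHom.id A B₀) (c i k) = π (pderiv k (f i)) := by
    intro i k
    have h := congrArg (diagDeriv π k) (hc i)
    rw [map_sum] at h
    simp only [diagDeriv_mul, diagDeriv_diag] at h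
    have hz : ∀ j, Algebra.TensorProduct.productMap π (AlgHom.id A B₀) (diag π j) = 0 := fun j =>
      RingHom.mem_ker.1 ((span_diag π).le (Ideal.subset_span ⟨j, rfl⟩))
    simp [hz, diagDeriv] at h
    exact h
  refine (AlgHom.map_det (Algebra.TensorProduct.productMap π (AlgHom.id A B₀)) (Matrix.of c)).trans
    (Eq.trans ?_ (AlgHom.map_det π (Matrix.of fun i j => pderiv j (f i))).symm)
  congr 1
  exact Matrix.ext fun i k => hval i k

/-- The generator of the annihilator of the diagonal. -/
theorem exists_annihilator_generator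
    (hex : ∀ p, Function.Exact (Koszul.d f (p + 1)) (Koszul.d f p)) [Module.Flat A B₀] :
    ∃ δ : B₀ ⊗[A] B₀, Submodule.annihilator (RingHom.ker (Algebra.TensorProduct.lmul' (S := B₀) A)) =
        Ideal.span {δ} ∧
      Algebra.TensorProduct.lmul' (S := B₀) A δ =
        Ideal.Quotient.mk (Ideal.span (Set.range f)) (Matrix.det (Matrix.of fun i j => pderiv j (f i))) := by
  let π := Ideal.Quotient.mkₐ A (Ideal.span (Set.range f))
  have hmem : ∀ i, f i ⊗ₜ[A] (1 : B₀) ∈ Ideal.span (Set.range (diag π)) := fun i => by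
    rw [span_diag, RingHom.mem_ker, Algebra.TensorProduct.productMap_apply_tmul, map_one, mul_one]
    exact Ideal.Quotient.eq_zero_iff_mem.2 (Ideal.subset_span ⟨i, rfl⟩)
  choose c hc using fun i => (Ideal.mem_span_range_iff_exists_fun).1 (hmem i)
  refine ⟨_, annihilator_ker_lmul_of_exact f hex (diag π) (span_diag π) (Matrix.of c) (fun i => (hc i).symm), ?_⟩
  show ((Algebra.TensorProduct.lmul' (S := B₀) A).comp (Algebra.TensorProduct.map π (AlgHom.id A B₀)))
    (Matrix.det (Matrix.of c)) = π _
  rw [← Algebra.TensorProduct.productMap_eq_comp_map]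
  exact productMap_det_eq f c hc

theorem flat_and_noetherDifferent [Algebra.QuasiFinite A B₀] :
    Module.Flat A B₀ ∧ Disc.noetherDifferent A B₀ =
      Ideal.span {Ideal.Quotient.mk (Ideal.span (Set.range f)) (Matrix.det (Matrix.of fun i j => pderiv j (f i)))} := by
  obtain ⟨hflat, hex⟩ := flat_and_exact_of_quasiFinite f
  obtain ⟨δ, hδ, hμ⟩ := exists_annihilator_generator f hex
  refine ⟨hflat, ?_⟩
  rw [Disc.noetherDifferent, hδ, Ideal.map_span, Set.image_singleton, hμ]

end Quotient

end Groth.Agent.Disc12
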