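import Groth.Agent.Disc12.GCIDiff

/-! Self duality of finite free global complete intersections. -/

universe u

set_option autoImplicit false
set_option backward.isDefEq.respectTransparency false

open MvPolynomial TensorProduct

namespace Groth.Agent.Disc12

variable {L : Type u} [Field L] {n : ℕ}

theorem span_X_sub_C (a : Fin n → L) :
    Ideal.span (Set.range fun j => X j - C (a j)) = RingHom.ker (aeval (R := L) a) := by
  refine le_antisymm (Ideal.span_le.2 ?_) fun p hp => ?_
  · rintro _ ⟨j, rfl⟩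
    simp
  · have h : ∀ p : MvPolynomial (Fin n) L, p - C (aeval a p) ∈ Ideal.span (Set.range fun j => X j - C (a j)) := by
      intro p
      induction p using MvPolynomial.induction_on with
      | C r => simp
      | add p q hp hq =>
        rw [map_add, C_add, show p + q - (C (aeval a p) + C (aeval a q)) = (p - C (aeval a p)) + (q - C (aeval a q)) by ring]
        exact add_mem hp hq
      | mul_X p i hp =>
        rw [map_mul, aeval_X, C_mul, show p * X i - C (aeval a p) * C (a i) =
          X i * (p - C (aeval a p)) + C (aeval a p) * (X i - C (a i)) by ring]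
        exact add_mem (Ideal.mul_mem_left _ _ hp) (Ideal.mul_mem_left _ _ (Ideal.subset_span ⟨i, rfl⟩))
    have := h p
    rwa [RingHom.mem_ker.1 hp, C_0, sub_zero] at this

/-- At a rational zero of a finite complete intersection over a field the determinant is nonzero. -/
theorem det_notMem_span (f : Fin n → MvPolynomial (Fin n) L)
    [Module.Finite L (MvPolynomial (Fin n) L ⧸ Ideal.span (Set.range f))] (a : Fin n → L)
    (c : Matrix (Fin n) (Fin n) (MvPolynomial (Fin n) L))
    (hc : ∀ i, f i = ∑ j, c i j * (X j - C (a j))) : c.det ∉ Ideal.span (Set.range f) := by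
  intro hdet
  let I := Ideal.span (Set.range f)
  let S := MvPolynomial (Fin n) L ⧸ I
  haveI : IsArtinianRing S := IsArtinianRing.of_finite L S
  haveI : Algebra.QuasiFinite L S := inferInstance
  obtain ⟨-, hex⟩ := flat_and_exact_of_quasiFinite f
  let θ : MvPolynomial (Fin n) L →+* L := (aeval a).toRingHom
  have hfθ : ∀ x ∈ I, θ x = 0 := by
    intro x hx
    have hle : I ≤ RingHom.ker θ := Ideal.span_le.2 (by
      rintro _ ⟨i, rfl⟩
      show aeval a (f i) = 0
      simp [hc])
    exact hle hx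
  let θ' : S →+* L := Ideal.Quotient.lift I θ hfθ
  let m : Ideal S := RingHom.ker θ'
  haveI : m.IsPrime := RingHom.ker_isPrime θ'
  haveI : m.IsMaximal := IsArtinianRing.isMaximal_of_isPrime m
  have hmin : m ∈ (Module.annihilator S S).minimalPrimes := by
    rw [Module.annihilator_eq_bot.2 inferInstance]
    exact ⟨⟨inferInstance, bot_le⟩, fun q hq hqm =>
      haveI := hq.1
      ((IsArtinianRing.isMaximal_of_isPrime q).eq_of_le (Ideal.IsPrime.ne_top inferInstance) hqm).ge⟩
  obtain ⟨-, z, hz⟩ := isAssociatedPrime_iff.1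
    (Module.associatedPrimes.minimalPrimes_annihilator_subset_associatedPrimes S S hmin)
  obtain ⟨x, rfl⟩ := Ideal.Quotient.mk_surjective z
  have hx : x ∈ Ideal.span {c.det} ⊔ I := (Koszul.mem_colon_iff hex hc).1 fun j => by
    have h1 : Ideal.Quotient.mk I (X j - C (a j)) ∈ m := by
      show aeval a (X j - C (a j)) = 0
      simp
    rw [hz, Submodule.mem_colon_singleton, Submodule.mem_bot, smul_eq_mul, ← map_mul,
      Ideal.Quotient.eq_zero_iff_mem, mul_comm] at h1
    exact h1
  have hxI : x ∈ I := (sup_le ((Ideal.span_singleton_le_iff_mem _).2 hdet) le_rfl) hx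
  have hx0 : (Ideal.Quotient.mk I) x = (0 : S) := Ideal.Quotient.eq_zero_iff_mem.2 hxI
  have h1m : (1 : S) ∈ m := hz.ge (Submodule.mem_colon_singleton.2 ((Submodule.mem_bot S).2 (by
    rw [one_smul]; exact hx0)))
  exact Ideal.IsPrime.ne_top (inferInstance : m.IsPrime) ((Ideal.eq_top_iff_one m).2 h1m)

theorem map_det_of {R S : Type u} [CommRing R] [CommRing S] (θ : R →+* S) (c : Fin n → Fin n → R) :
    θ (Matrix.det (Matrix.of c)) = (Matrix.of fun i j => θ (c i j)).det := by
  rw [RingHom.map_det]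
  rfl

theorem injective_of_surjective {A B : Type u} [CommRing A] [CommRing B] [Algebra A B] [Module.Finite A B]
    [Module.Free A B] (Φ : Disc.Omega A B →ₗ[B] B) (hsurj : Function.Surjective Φ) : Function.Injective Φ := by
  classical
  let b := Module.Free.chooseBasis A B
  let Φ' : (B →ₗ[A] A) →ₗ[A] B :=
    { toFun := fun l => Φ ⟨l⟩
      map_add' := fun l l' => map_add Φ ⟨l⟩ ⟨l'⟩
      map_smul' := fun a l => by
        show Φ ⟨a • l⟩ = a • Φ ⟨l⟩
        rw [← algebraMap_smul B a (Φ ⟨l⟩), ← map_smul]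
        refine congrArg Φ (Disc.Omega.ext (LinearMap.ext fun x => ?_))
        rw [algebraMap_smul_omega]
        rfl }
  let T : B →ₗ[A] B := Φ' ∘ₗ b.toDualEquiv.toLinearMap
  have hs : Function.Surjective T := fun y => by
    obtain ⟨⟨l⟩, hl⟩ := hsurj y
    exact ⟨b.toDualEquiv.symm l, (congrArg Φ' (b.toDualEquiv.apply_symm_apply l)).trans hl⟩
  have hi : Function.Injective T := OrzechProperty.injective_of_surjective_endomorphism T hs
  intro l l' h
  have h' : T (b.toDualEquiv.symm l.toLinearMap) = T (b.toDualEquiv.symm l'.toLinearMap) :=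
    ((congrArg Φ' (b.toDualEquiv.apply_symm_apply _)).trans h).trans
      (congrArg Φ' (b.toDualEquiv.apply_symm_apply _)).symm
  exact Disc.Omega.ext (b.toDualEquiv.symm.injective (hi h'))

theorem finite_of_surjective_tensor {A B K C : Type u} [CommRing A] [CommRing B] [Algebra A B]
    [Algebra.QuasiFinite A B] [Field K] [Algebra A K] [CommRing C] [Algebra K C] (G : K ⊗[A] B →ₐ[K] C)
    (hG : Function.Surjective G) : Module.Finite K C :=
  haveI : Module.Finite K (K ⊗[A] B) := Module.Finite.of_quasiFinite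
  Module.Finite.of_surjective G.toLinearMap hG

variable {A : Type u} [CommRing A] (f : Fin n → MvPolynomial (Fin n) A)

local notation "B₀" => MvPolynomial (Fin n) A ⧸ Ideal.span (Set.range f)

theorem image_generator_ne_zero [Algebra.QuasiFinite A B₀] (K : Type u) [Field K] [Algebra A K] (q : B₀ →ₐ[A] K)
    (c : Fin n → Fin n → MvPolynomial (Fin n) A ⊗[A] B₀)
    (hc : ∀ i, ∑ j, c i j * diag (Ideal.Quotient.mkₐ A (Ideal.span (Set.range f))) j = f i ⊗ₜ 1) :
    Algebra.TensorProduct.map (AlgHom.id A B₀) q (Algebra.TensorProduct.map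
      (Ideal.Quotient.mkₐ A (Ideal.span (Set.range f))) (AlgHom.id A B₀) (Matrix.det (Matrix.of c))) ≠ 0 := by
  intro h0
  let π := Ideal.Quotient.mkₐ A (Ideal.span (Set.range f))
  let φ : MvPolynomial (Fin n) A →ₐ[A] MvPolynomial (Fin n) K := MvPolynomial.mapAlgHom (Algebra.ofId A K)
  let fK : Fin n → MvPolynomial (Fin n) K := fun i => φ (f i)
  let I : Ideal (MvPolynomial (Fin n) K) := Ideal.span (Set.range fK)
  let cst : K →ₐ[A] MvPolynomial (Fin n) K := IsScalarTower.toAlgHom A K _
  let Θ : MvPolynomial (Fin n) A ⊗[A] B₀ →ₐ[A] MvPolynomial (Fin n) K :=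
    Algebra.TensorProduct.productMap φ (cst.comp q)
  have hker : ∀ x ∈ Ideal.span (Set.range f), ((Ideal.Quotient.mkₐ A I).comp φ) x = 0 := fun x hx => by
    have hle : Ideal.span (Set.range f) ≤ RingHom.ker ((Ideal.Quotient.mkₐ A I).comp φ) := Ideal.span_le.2 (by
      rintro _ ⟨i, rfl⟩
      exact Ideal.Quotient.eq_zero_iff_mem.2 (Ideal.subset_span ⟨i, rfl⟩))
    exact hle hx
  let g : B₀ →ₐ[A] MvPolynomial (Fin n) K ⧸ I := Ideal.Quotient.liftₐ _ _ hker
  have hgπ : ∀ p, g (π p) = Ideal.Quotient.mk I (φ p) := fun p => rfl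
  -- finiteness over `K`
  haveI : Module.Finite K (MvPolynomial (Fin n) K ⧸ I) := by
    let G : K ⊗[A] B₀ →ₐ[K] MvPolynomial (Fin n) K ⧸ I :=
      Algebra.TensorProduct.lift (Algebra.ofId K _) g fun _ _ => Commute.all _ _
    have h2 : (Ideal.Quotient.mkₐ K I).range ≤ G.range := by
      rw [← Algebra.map_top, ← MvPolynomial.adjoin_range_X, AlgHom.map_adjoin, Algebra.adjoin_le_iff]
      rintro _ ⟨_, ⟨i, rfl⟩, rfl⟩
      refine ⟨(1 : K) ⊗ₜ π (X i), ?_⟩
      show G ((1 : K) ⊗ₜ π (X i)) = _
      simp [G, hgπ, φ]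
    have hG : Function.Surjective G := fun y => by
      obtain ⟨z, rfl⟩ := Ideal.Quotient.mk_surjective y
      exact h2 ⟨z, rfl⟩
    exact finite_of_surjective_tensor G hG
  let a : Fin n → K := fun j => q (π (X j))
  have hdiag : ∀ j, Θ (diag π j) = X j - C (a j) := fun j => by
    simp [Θ, diag, φ, cst, a, MvPolynomial.algebraMap_eq]
  have hcK : ∀ i, fK i = ∑ j, (Matrix.of fun i j => Θ (c i j)) i j * (X j - C (a j)) := fun i => by
    have h := congrArg Θ (hc i)
    simp only [map_sum, map_mul] at h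
    rw [show Θ (f i ⊗ₜ[A] (1 : B₀)) = fK i by simp [Θ, fK]] at h
    rw [← h]
    simp [π, hdiag]
  refine det_notMem_span fK a _ hcK ?_
  have hdet : (Matrix.of fun i j => Θ (c i j)).det = Θ.toRingHom (Matrix.det (Matrix.of c)) :=
    (map_det_of Θ.toRingHom c).symm
  rw [hdet, ← Ideal.Quotient.eq_zero_iff_mem]
  let Ψ : B₀ ⊗[A] K →ₐ[A] MvPolynomial (Fin n) K ⧸ I :=
    Algebra.TensorProduct.productMap g ((Ideal.Quotient.mkₐ A I).comp cst)
  have hcomp : Ψ.comp ((Algebra.TensorProduct.map (AlgHom.id A B₀) q).comp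
      (Algebra.TensorProduct.map π (AlgHom.id A B₀))) = (Ideal.Quotient.mkₐ A I).comp Θ := by
    refine Algebra.TensorProduct.ext' fun p b => ?_
    simp [Ψ, Θ, hgπ]
  have := congrArg Ψ h0
  rw [map_zero] at this
  exact (AlgHom.congr_fun hcomp _).symm.trans this

theorem exists_equiv [Module.Finite A B₀] [Module.Free A B₀] :
    ∃ e : B₀ ≃ₗ[B₀] Disc.Omega A B₀,
      e (Ideal.Quotient.mk (Ideal.span (Set.range f)) (Matrix.det (Matrix.of fun i j => pderiv j (f i)))) =
        Disc.Omega.trace A B₀ := by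
  rcases subsingleton_or_nontrivial B₀ with hB | hB
  · haveI : Subsingleton (Disc.Omega A B₀) := ⟨fun l l' => Disc.Omega.ext (LinearMap.ext fun x => by
      rw [Subsingleton.elim x 0, map_zero, map_zero])⟩
    exact ⟨{ toFun := fun _ => 0, invFun := fun _ => 0, map_add' := fun _ _ => Subsingleton.elim _ _,
             map_smul' := fun _ _ => Subsingleton.elim _ _, left_inv := fun _ => Subsingleton.elim _ _,
             right_inv := fun _ => Subsingleton.elim _ _ }, Subsingleton.elim _ _⟩
  let π := Ideal.Quotient.mkₐ A (Ideal.span (Set.range f))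
  obtain ⟨hflat, hex⟩ := flat_and_exact_of_quasiFinite f
  have hmem : ∀ i, f i ⊗ₜ[A] (1 : B₀) ∈ Ideal.span (Set.range (diag π)) := fun i => by
    rw [span_diag, RingHom.mem_ker, Algebra.TensorProduct.productMap_apply_tmul, map_one, mul_one]
    exact Ideal.Quotient.eq_zero_iff_mem.2 (Ideal.subset_span ⟨i, rfl⟩)
  choose c hc using fun i => (Ideal.mem_span_range_iff_exists_fun).1 (hmem i)
  let δ : B₀ ⊗[A] B₀ := Algebra.TensorProduct.map π (AlgHom.id A B₀) (Matrix.det (Matrix.of c))
  have hJ : J A B₀ = Ideal.span {δ} :=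
    annihilator_ker_lmul_of_exact f hex (diag π) (span_diag π) (Matrix.of c) (fun i => (hc i).symm)
  have hδ : δ ∈ J A B₀ := hJ ▸ Ideal.mem_span_singleton_self δ
  let Φ := toHom hδ
  let b := Module.Free.chooseBasis A B₀
  have hsurj : Function.Surjective Φ := by
    rw [← LinearMap.range_eq_top]
    by_contra hne
    obtain ⟨m, hm, hle⟩ := Ideal.exists_le_maximal (LinearMap.range Φ) hne
    letI := Ideal.Quotient.field m
    refine image_generator_ne_zero f (B₀ ⧸ m) (Ideal.Quotient.mkₐ A m) c hc ?_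
    show Algebra.TensorProduct.map (AlgHom.id A B₀) (Ideal.Quotient.mkₐ A m) δ = 0
    rw [← sum_pair b δ, map_sum]
    refine Finset.sum_eq_zero fun k _ => ?_
    rw [Algebra.TensorProduct.map_tmul, show Ideal.Quotient.mkₐ A m (pair (coordω b k) δ) = 0 from
      Ideal.Quotient.eq_zero_iff_mem.2 (hle ⟨coordω b k, rfl⟩), tmul_zero]
  have hinj : Function.Injective Φ := injective_of_surjective Φ hsurj
  refine ⟨(LinearEquiv.ofBijective Φ ⟨hinj, hsurj⟩).symm, ?_⟩
  rw [LinearEquiv.symm_apply_eq, LinearEquiv.ofBijective_apply]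
  show _ = pair (Disc.Omega.trace A B₀) δ
  rw [pair_trace hδ]
  have hμ : μ A B₀ δ = Algebra.TensorProduct.productMap π (AlgHom.id A B₀) (Matrix.det (Matrix.of c)) := by
    rw [Algebra.TensorProduct.productMap_eq_comp_map]; rfl
  rw [hμ]
  exact (productMap_det_eq f c hc).symm

end Groth.Agent.Disc12
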