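import Mathlib

/-! Traces over finite dimensional local algebras. -/

universe u v

set_option autoImplicit false

open IsLocalRing

namespace Groth.Agent.Disc12

variable {k : Type u} [Field k]

theorem trace_eq_of_submodule {M : Type v} [AddCommGroup M] [Module k M] [FiniteDimensional k M]
    (N : Submodule k M) (f : M →ₗ[k] M) (hf : ∀ x ∈ N, f x ∈ N) :
    LinearMap.trace k M f = LinearMap.trace k N (f.restrict hf) +
      LinearMap.trace k (M ⧸ N) (N.mapQ N f hf) := by
  obtain ⟨C, hC⟩ := N.exists_isCompl
  let e : (N × C) ≃ₗ[k] M := Submodule.prodEquivOfIsCompl N C hC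
  let q : (M ⧸ N) ≃ₗ[k] C := Submodule.quotientEquivOfIsCompl N C hC
  have he : ∀ w : N × C, e w = (w.1 : M) + (w.2 : M) := fun w => rfl
  let g := e.symm.toLinearMap ∘ₗ f ∘ₗ e.toLinearMap
  have hg : g = LinearMap.prodMap (f.restrict hf) ((LinearMap.snd k N C) ∘ₗ g ∘ₗ LinearMap.inr k N C) +
      (LinearMap.inl k N C ∘ₗ (LinearMap.fst k N C ∘ₗ g ∘ₗ LinearMap.inr k N C)) ∘ₗ LinearMap.snd k N C := by
    refine LinearMap.prod_ext (LinearMap.ext fun x => ?_) (LinearMap.ext fun x => ?_)
    · have : g (x, 0) = (f.restrict hf x, 0) := by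
        apply e.injective
        show e (e.symm (f (e (x, 0)))) = e (f.restrict hf x, 0)
        rw [e.apply_symm_apply, he, he]
        simp
      have h0 : g (0, 0) = 0 := map_zero g
      simpa [h0] using this
    · refine Prod.ext ?_ ?_ <;> simp
  have htr : LinearMap.trace k M f = LinearMap.trace k (N × C) g := by
    rw [show g = e.symm.conj f from rfl, LinearMap.trace_conj']
  have hzero : LinearMap.trace k (N × C)
      ((LinearMap.inl k N C ∘ₗ (LinearMap.fst k N C ∘ₗ g ∘ₗ LinearMap.inr k N C)) ∘ₗ LinearMap.snd k N C) = 0 := by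
    rw [LinearMap.trace_comp_comm', ← LinearMap.comp_assoc, LinearMap.snd_comp_inl, LinearMap.zero_comp,
      map_zero]
  rw [htr, hg, map_add, hzero, add_zero, LinearMap.trace_prodMap',
    ← LinearMap.trace_conj' (N.mapQ N f hf) q]
  congr 2
  refine LinearMap.ext fun x => q.symm.injective ?_
  rw [LinearEquiv.conj_apply_apply, q.symm_apply_apply,
    show q.symm x = Submodule.Quotient.mk (x : M) from Submodule.quotientEquivOfIsCompl_symm_apply _ _ _ _,
    Submodule.mapQ_apply, show q.symm ((LinearMap.snd k N C ∘ₗ g ∘ₗ LinearMap.inr k N C) x) =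
      Submodule.Quotient.mk (((LinearMap.snd k N C ∘ₗ g ∘ₗ LinearMap.inr k N C) x : C) : M) from
      Submodule.quotientEquivOfIsCompl_symm_apply _ _ _ _, Submodule.Quotient.eq]
  have : e (g (0, x)) = f x := by
    show e (e.symm (f (e (0, x)))) = f x
    rw [e.apply_symm_apply, he]
    simp
  rw [he] at this
  show ((g (0, x)).2 : M) - f x ∈ N
  rw [← this, show ((g (0, x)).2 : M) - (((g (0, x)).1 : M) + (g (0, x)).2) = -((g (0, x)).1 : M) by abel]
  exact N.neg_mem (g (0, x)).1.2

variable {A : Type u} [CommRing A] [Algebra k A] [IsLocalRing A]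

/-- The trace of `a` on a module is its length times the trace of the residue class. -/
theorem trace_lsmul_eq [FiniteDimensional k A] {M : Type u} [AddCommGroup M] [Module A M] [Module k M] [IsScalarTower k A M]
    [FiniteDimensional k M] (a : A) :
    LinearMap.trace k M (Algebra.lsmul k k M a) =
      ((Module.length A M).toNat : k) * Algebra.trace k (ResidueField A) (residue A a) := by
  induction h : Module.finrank k M using Nat.strong_induction_on generalizing M with
  | _ n ih =>
    subst h
    rcases subsingleton_or_nontrivial M with hM | hM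
    · rw [Module.length_eq_zero_iff.2 hM, Subsingleton.elim (Algebra.lsmul k k M a) 0]
      simp
    haveI : IsArtinian A M := isArtinian_of_tower k inferInstance
    haveI : IsNoetherian A M := isNoetherian_of_tower k inferInstance
    obtain ⟨N, hN⟩ := IsArtinian.set_has_minimal {N : Submodule A M | N ≠ ⊥} ⟨⊤, top_ne_bot⟩
    haveI : IsSimpleModule A N := isSimpleModule_iff_isAtom.2 ⟨hN.1, fun K hK => by
      by_contra hK'
      exact hN.2 K hK' hK⟩
    obtain ⟨m, hm, ⟨e⟩⟩ := isSimpleModule_iff_quot_maximal.1 (inferInstance : IsSimpleModule A N)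
    obtain rfl := eq_maximalIdeal hm
    haveI : FiniteDimensional k (M ⧸ N) :=
      inferInstanceAs (FiniteDimensional k (M ⧸ N.restrictScalars k))
    have hlt : Module.finrank k (M ⧸ N) < Module.finrank k M := by
      have h1 := (N.restrictScalars k).finrank_quotient_add_finrank
      have h2 : 0 < Module.finrank k (N.restrictScalars k) := by
        haveI : Nontrivial (N.restrictScalars k) := (inferInstance : IsSimpleModule A N).nontrivial
        exact Module.finrank_pos
      change Module.finrank k (M ⧸ N) + Module.finrank k (N.restrictScalars k) = _ at h1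
      omega
    have h2 := ih _ hlt (M := M ⧸ N) rfl
    have hlen : Module.length A M = Module.length A N + Module.length A (M ⧸ N) :=
      Module.length_eq_add_of_exact N.subtype N.mkQ N.subtype_injective N.mkQ_surjective
        (LinearMap.exact_subtype_mkQ N)
    rw [trace_eq_of_submodule (N.restrictScalars k) (Algebra.lsmul k k M a) (fun x hx => N.smul_mem a hx),
      hlen, ENat.toNat_add (Module.length_ne_top) (Module.length_ne_top), Module.length_eq_one]
    simp only [ENat.toNat_one, Nat.cast_add, Nat.cast_one, add_mul, one_mul]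
    refine congrArg₂ (· + ·) ?_ h2
    let e' : (N.restrictScalars k) ≃ₗ[k] ResidueField A := e.restrictScalars k
    rw [← LinearMap.trace_conj' _ e']
    refine congrArg (LinearMap.trace k (ResidueField A)) (LinearMap.ext fun y => ?_)
    rw [LinearEquiv.conj_apply_apply]
    show e (a • (e.symm y)) = residue A a * y
    rw [map_smul, e.apply_symm_apply]
    exact Algebra.smul_def a y

theorem trace_ne_zero_iff [FiniteDimensional k A] :
    Algebra.trace k A ≠ 0 ↔
      (Algebra.IsSeparable k (ResidueField A) ∧
        ∀ p : ℕ, p.Prime → CharP k p → ¬ p ∣ (Module.length A A).toNat) := by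
  haveI : FiniteDimensional k (ResidueField A) :=
    Module.Finite.of_surjective (IsScalarTower.toAlgHom k A (ResidueField A)).toLinearMap residue_surjective
  have key : ∀ a, Algebra.trace k A a =
      ((Module.length A A).toNat : k) * Algebra.trace k (ResidueField A) (residue A a) :=
    fun a => trace_lsmul_eq (M := A) a
  have h1 : Algebra.trace k A ≠ 0 ↔ ((Module.length A A).toNat : k) ≠ 0 ∧
      Algebra.trace k (ResidueField A) ≠ 0 := by
    refine ⟨fun h => ⟨fun h0 => h (LinearMap.ext fun a => by rw [key, h0, zero_mul, LinearMap.zero_apply]),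
      fun h0 => h (LinearMap.ext fun a => by rw [key, h0, LinearMap.zero_apply, mul_zero, LinearMap.zero_apply])⟩,
      fun ⟨h, h'⟩ h0 => h' (LinearMap.ext fun y => ?_)⟩
    obtain ⟨a, rfl⟩ := residue_surjective y
    have := key a
    rw [h0, LinearMap.zero_apply, eq_comm, mul_eq_zero] at this
    simpa using this.resolve_left h
  have h2 : Algebra.trace k (ResidueField A) ≠ 0 ↔ Algebra.IsSeparable k (ResidueField A) :=
    ((traceForm_nondegenerate_tfae k (ResidueField A)).out 1 0)
  have hpos : (Module.length A A).toNat ≠ 0 := by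
    haveI : IsArtinian A A := isArtinian_of_tower k inferInstance
    haveI : IsNoetherian A A := isNoetherian_of_tower k inferInstance
    simp [ENat.toNat_eq_zero, Module.length_ne_top, (Module.length_pos (R := A) (M := A)).ne']
  rw [h1, h2, and_comm]
  refine and_congr_right fun _ => ⟨fun h p _ _ hd => h ((CharP.cast_eq_zero_iff k p _).2 hd), fun h h0 => ?_⟩
  obtain ⟨p, hp⟩ := CharP.exists k
  have hd := (CharP.cast_eq_zero_iff k p _).1 h0
  rcases CharP.char_is_prime_or_zero k p with hprime | rfl
  · exact h p hprime hp hd
  · exact hpos (Nat.zero_dvd.1 hd)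

end Groth.Agent.Disc12
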