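import Groth.Prelude.Def_Disc
import Mathlib

/-! The Noether different: base change and open immersions. -/

universe u

set_option autoImplicit false

open TensorProduct

namespace Groth.Agent.Disc12

theorem annihilator_map {C' C : Type u} [CommRing C'] [CommRing C] (ψ : C' →+* C) (hψ : ψ.Flat)
    (J : Ideal C') (hJ : J.FG) :
    Submodule.annihilator (J.map ψ) = (Submodule.annihilator J).map ψ := by
  classical
  let _ := ψ.toAlgebra
  have : Module.Flat C' C := hψ
  refine le_antisymm (fun c hc => ?_) (Ideal.map_le_iff_le_comap.2 fun a ha => ?_)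
  · obtain ⟨s, hs⟩ := hJ
    let ρ : C' →ₗ[C'] (s → C') := LinearMap.pi fun j => LinearMap.mulRight C' j.1
    have hker : LinearMap.ker ρ = Submodule.annihilator J := by
      ext a
      rw [LinearMap.mem_ker, ← hs, Submodule.mem_annihilator_span]
      simp [ρ, funext_iff, mul_comm]
    have hex := Module.Flat.lTensor_exact C (f := (LinearMap.ker ρ).subtype) (g := ρ)
      (LinearMap.exact_subtype_ker_map ρ)
    have h0 : ρ.lTensor C (c ⊗ₜ 1) = 0 := by
      apply (TensorProduct.piRight C' C C (fun _ : s => C')).injective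
      ext j
      rw [LinearMap.lTensor_tmul, TensorProduct.piRight_apply, TensorProduct.piRightHom_tmul]
      apply (TensorProduct.rid C' C).injective
      simp only [ρ, LinearMap.pi_apply, LinearMap.mulRight_apply, TensorProduct.rid_tmul, one_mul,
        map_zero, Pi.zero_apply]
      have := Submodule.mem_annihilator.1 hc (ψ j.1) (Ideal.mem_map_of_mem ψ (hs ▸ Ideal.subset_span j.2))
      rw [smul_eq_mul, mul_comm] at this
      exact this
    obtain ⟨z, hz⟩ := (hex (c ⊗ₜ 1)).1 h0
    have key : ∀ z : C ⊗[C'] LinearMap.ker ρ, TensorProduct.rid C' C ((LinearMap.ker ρ).subtype.lTensor C z) ∈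
        (Submodule.annihilator J).map ψ := fun z => by
      induction z using TensorProduct.induction_on with
      | zero => simp
      | tmul x a =>
        rw [LinearMap.lTensor_tmul, TensorProduct.rid_tmul, Algebra.smul_def]
        exact Ideal.mul_mem_right _ _ (Ideal.mem_map_of_mem ψ (hker ▸ a.2))
      | add x y hx hy => rw [map_add, map_add]; exact add_mem hx hy
    simpa [hz] using key z
  · rw [Ideal.mem_comap, Submodule.mem_annihilator]
    intro x hx
    rw [Submodule.mem_annihilator] at ha
    have hle : J.map ψ ≤ LinearMap.ker (LinearMap.mulLeft C (ψ a)) :=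
      Ideal.map_le_iff_le_comap.2 fun j hj => by
        rw [Ideal.mem_comap, LinearMap.mem_ker, LinearMap.mulLeft_apply, ← map_mul]
        rw [show a * j = 0 from ha j hj, map_zero]
    exact hle hx

/-- If `ψ : C' → C` is flat and intertwines the multiplication maps, with the kernel downstairs
generating the one upstairs, the Noether different is extended. -/
theorem noetherDifferent_map {A B A' B' : Type u} [CommRing A] [CommRing B] [Algebra A B]
    [CommRing A'] [CommRing B'] [Algebra A' B'] [Algebra.EssFiniteType A B]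
    (φ : B →+* B') (ψ : B ⊗[A] B →+* B' ⊗[A'] B') (hψ : ψ.Flat)
    (hc : (Algebra.TensorProduct.lmul' (S := B') A').toRingHom.comp ψ =
      φ.comp (Algebra.TensorProduct.lmul' (S := B) A).toRingHom)
    (hker : ∀ b : B', b ⊗ₜ[A'] (1 : B') - 1 ⊗ₜ[A'] b ∈
      (RingHom.ker (Algebra.TensorProduct.lmul' (S := B) A)).map ψ) :
    _root_.Disc.noetherDifferent A' B' = (_root_.Disc.noetherDifferent A B).map φ := by
  have hk : RingHom.ker (Algebra.TensorProduct.lmul' (S := B') A') =
      (RingHom.ker (Algebra.TensorProduct.lmul' (S := B) A)).map ψ := by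
    refine le_antisymm ?_ (Ideal.map_le_iff_le_comap.2 fun x hx => ?_)
    · show KaehlerDifferential.ideal A' B' ≤ _
      rw [← KaehlerDifferential.span_range_eq_ideal, Ideal.span_le]
      rintro _ ⟨b, rfl⟩
      have := neg_mem (hker b)
      rwa [neg_sub] at this
    · rw [Ideal.mem_comap, RingHom.mem_ker]
      have := RingHom.congr_fun hc x
      simp only [RingHom.coe_comp, Function.comp_apply, AlgHom.toRingHom_eq_coe, RingHom.coe_coe] at this
      rw [this, RingHom.mem_ker.1 hx, map_zero]
  unfold _root_.Disc.noetherDifferent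
  rw [hk, annihilator_map ψ hψ (RingHom.ker (Algebra.TensorProduct.lmul' (S := B) A))
    (KaehlerDifferential.ideal_fg A B)]
  change Ideal.map (Algebra.TensorProduct.lmul' (S := B') A').toRingHom (Ideal.map ψ _) =
    Ideal.map φ (Ideal.map (Algebra.TensorProduct.lmul' (S := B) A).toRingHom _)
  rw [Ideal.map_map, Ideal.map_map, hc]

open CategoryTheory AlgebraicGeometry in
theorem noetherDifferent_openImmersion {A B' B : Type u} [CommRing A] [CommRing B'] [CommRing B]
    [Algebra A B'] [Algebra A B] [Algebra B' B] [IsScalarTower A B' B] [Algebra.FiniteType A B']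
    (h : IsOpenImmersion (Spec.map (CommRingCat.ofHom (algebraMap B' B)))) :
    _root_.Disc.noetherDifferent A B = (_root_.Disc.noetherDifferent A B').map (algebraMap B' B) := by
  let φ := IsScalarTower.toAlgHom A B' B
  let ψ := Algebra.TensorProduct.map (S := A) φ φ
  have hflat : φ.Flat := (Flat.SpecMap_iff (f := CommRingCat.ofHom (algebraMap B' B))).1 inferInstance
  refine noetherDifferent_map (algebraMap B' B) ψ.toRingHom (RingHom.Flat.tensorProductMap hflat hflat) ?_ ?_
  · have : (Algebra.TensorProduct.lmul' (S := B) A).comp ψ =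
        φ.comp (Algebra.TensorProduct.lmul' (S := B') A) := by
      ext x <;> simp [ψ, φ]
    exact congrArg AlgHom.toRingHom this
  · intro b
    let I := (RingHom.ker (Algebra.TensorProduct.lmul' (S := B') A)).map ψ.toRingHom
    let l : CommRingCat.of B ⟶ CommRingCat.of ((B ⊗[A] B) ⧸ I) :=
      CommRingCat.ofHom ((Ideal.Quotient.mk I).comp
        (Algebra.TensorProduct.includeLeft (S := A) : B →ₐ[A] B ⊗[A] B).toRingHom)
    let r : CommRingCat.of B ⟶ CommRingCat.of ((B ⊗[A] B) ⧸ I) :=
      CommRingCat.ofHom ((Ideal.Quotient.mk I).comp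
        (Algebra.TensorProduct.includeRight : B →ₐ[A] B ⊗[A] B).toRingHom)
    have hlr : l = r := by
      apply Spec.map_injective
      rw [← cancel_mono (Spec.map (CommRingCat.ofHom (algebraMap B' B))), ← Spec.map_comp, ← Spec.map_comp]
      congr 1
      ext x
      refine Ideal.Quotient.eq.2 ?_
      have hx : x ⊗ₜ[A] (1 : B') - 1 ⊗ₜ[A] x ∈ RingHom.ker (Algebra.TensorProduct.lmul' (S := B') A) := by
        simp [RingHom.mem_ker]
      have := Ideal.mem_map_of_mem ψ.toRingHom hx
      rw [show ψ.toRingHom (x ⊗ₜ[A] (1 : B') - 1 ⊗ₜ[A] x) = algebraMap B' B x ⊗ₜ[A] (1 : B) - 1 ⊗ₜ[A] algebraMap B' B x by simp [ψ, φ]] at this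
      exact this
    exact Ideal.Quotient.eq.1 congr($hlr b)

theorem noetherDifferent_baseChange {A B A' B' : Type u} [CommRing A] [CommRing B]
    [CommRing A'] [CommRing B'] [Algebra A B] [Algebra A A'] [Algebra A B'] [Algebra B B']
    [Algebra A' B'] [IsScalarTower A B B'] [IsScalarTower A A' B']
    [Algebra.IsPushout A B A' B'] [Algebra.FiniteType A B] [Module.Flat A A'] :
    _root_.Disc.noetherDifferent A' B' = (_root_.Disc.noetherDifferent A B).map (algebraMap B B') := by
  have hsymm : Algebra.IsPushout A A' B B' := ‹Algebra.IsPushout A B A' B'›.symm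
  let φ := IsScalarTower.toAlgHom A B B'
  have hflat : φ.Flat := RingHom.flat_algebraMap_iff.2
    (Module.Flat.isBaseChange A B A' B' ‹Algebra.IsPushout A B A' B'›.out)
  let ψ₁ := Algebra.TensorProduct.map (S := A) φ (AlgHom.id A B)
  let ψ₂ : B' ⊗[A] B →ₐ[A] B' ⊗[A'] B' := Algebra.TensorProduct.lift
    ((Algebra.TensorProduct.includeLeft (S := A') : B' →ₐ[A'] B' ⊗[A'] B').restrictScalars A)
    (((Algebra.TensorProduct.includeRight : B' →ₐ[A'] B' ⊗[A'] B').restrictScalars A).comp φ)
    (fun _ _ => .all _ _)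
  have hψ₂ : Function.Bijective ψ₂ := by
    let ρ : B' →ₐ[A] B' ⊗[A] B := Algebra.pushoutDesc B' (R := A) (S := B) (R' := A')
      Algebra.TensorProduct.includeRight
      ((Algebra.TensorProduct.includeLeft (S := A) : B' →ₐ[A] B' ⊗[A] B).comp (IsScalarTower.toAlgHom A A' B'))
      (fun _ _ => mul_comm _ _)
    have hρ1 : ∀ b, ρ (algebraMap B B' b) = 1 ⊗ₜ b := fun b => Algebra.pushoutDesc_left B' _ _ _ b
    have hρ2 : ∀ a, ρ (algebraMap A' B' a) = algebraMap A' B' a ⊗ₜ 1 := fun a =>
      Algebra.pushoutDesc_right B' _ _ _ a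
    let χ : B' ⊗[A'] B' →ₐ[A'] B' ⊗[A] B := Algebra.TensorProduct.lift
      (Algebra.TensorProduct.includeLeft (S := A') : B' →ₐ[A'] B' ⊗[A] B)
      { ρ.toRingHom with commutes' := fun a => hρ2 a }
      (fun _ _ => .all _ _)
    have h1 : (χ.restrictScalars A).comp ψ₂ = AlgHom.id A _ := by
      ext x
      · simp [ψ₂, χ]
      · simp [ψ₂, χ, φ]
        rw [hρ1]; simp
    have h2 : ψ₂.comp (χ.restrictScalars A) = AlgHom.id A _ := by
      refine AlgHom.ext fun z => ?_
      induction z using TensorProduct.induction_on with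
      | zero => simp
      | add x y hx hy => simp only [map_add, hx, hy]
      | tmul x y =>
        have hy : ψ₂ (ρ y) = 1 ⊗ₜ y := by
          have : ψ₂.comp ρ = (Algebra.TensorProduct.includeRight : B' →ₐ[A'] B' ⊗[A'] B').restrictScalars A := by
            refine Algebra.IsPushout.algHom_ext (R := A) (S := B) (R' := A') (S' := B') ?_ ?_
            · ext a
              simp only [AlgHom.coe_comp, Function.comp_apply, IsScalarTower.coe_toAlgHom', hρ2]
              simp [ψ₂, Algebra.algebraMap_eq_smul_one, TensorProduct.smul_tmul]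
            · ext b
              simp only [AlgHom.coe_comp, Function.comp_apply, IsScalarTower.coe_toAlgHom', hρ1]
              simp [ψ₂, φ]
          exact AlgHom.congr_fun this y
        show ψ₂ (χ (x ⊗ₜ y)) = x ⊗ₜ y
        rw [Algebra.TensorProduct.lift_tmul, map_mul]
        refine (congrArg₂ (· * ·) (show ψ₂ (x ⊗ₜ 1) = x ⊗ₜ 1 by simp [ψ₂]) hy).trans ?_
        simp
    exact ⟨Function.LeftInverse.injective (AlgHom.congr_fun h1),
      Function.RightInverse.surjective (AlgHom.congr_fun h2)⟩
  refine noetherDifferent_map (algebraMap B B') (ψ₂.comp ψ₁).toRingHom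
    ((RingHom.Flat.tensorProductMap hflat (RingHom.Flat.id B)).comp (RingHom.Flat.of_bijective hψ₂)) ?_ ?_
  · have : ((Algebra.TensorProduct.lmul' (S := B') A').restrictScalars A).comp (ψ₂.comp ψ₁) =
        φ.comp (Algebra.TensorProduct.lmul' (S := B) A) := by
      ext x <;> simp [ψ₁, ψ₂, φ]
    exact congrArg AlgHom.toRingHom this
  · intro b
    let I := (RingHom.ker (Algebra.TensorProduct.lmul' (S := B) A)).map (ψ₂.comp ψ₁).toRingHom
    have : (Ideal.Quotient.mkₐ A I).comp
        ((Algebra.TensorProduct.includeLeft (S := A') : B' →ₐ[A'] B' ⊗[A'] B').restrictScalars A) =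
      (Ideal.Quotient.mkₐ A I).comp
        ((Algebra.TensorProduct.includeRight : B' →ₐ[A'] B' ⊗[A'] B').restrictScalars A) := by
      refine Algebra.IsPushout.algHom_ext (R := A) (S := B) (R' := A') (S' := B') ?_ ?_
      · ext a
        simp [Algebra.algebraMap_eq_smul_one, TensorProduct.smul_tmul]
      · ext x
        refine Ideal.Quotient.eq.2 ?_
        have hx : x ⊗ₜ[A] (1 : B) - 1 ⊗ₜ[A] x ∈ RingHom.ker (Algebra.TensorProduct.lmul' (S := B) A) := by
          simp [RingHom.mem_ker]
        have := Ideal.mem_map_of_mem (ψ₂.comp ψ₁).toRingHom hx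
        simpa [ψ₁, ψ₂, φ, I] using this
    exact Ideal.Quotient.eq.1 (AlgHom.congr_fun this b)

end Groth.Agent.Disc12
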