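import Groth.Agent.Disc12.GCIDual
import Groth.Agent.Disc12.SyntomicPres
import Groth.Agent.Disc12.Noether
import Groth.Agent.Disc12.FittJacobian

/-! The different of a finite free syntomic algebra. -/

universe u v

set_option autoImplicit false
set_option backward.isDefEq.respectTransparency false

open MvPolynomial TensorProduct

namespace Groth.Agent.Disc12

section Fitting

variable {B : Type u} [CommRing B] {M : Type v} [AddCommGroup M] [Module B M]
  {B' : Type u} [CommRing B'] [Algebra B B'] {M' : Type v} [AddCommGroup M'] [Module B M'] [Module B' M']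
  [IsScalarTower B B' M'] (S : Submonoid B) [IsLocalization S B'] (φ : M →ₗ[B] M') [IsLocalizedModule S φ]

include S φ in
theorem fittIdeal_zero_map [Module.Finite B M] :
    (Fitt.ideal B M 0).map (algebraMap B B') = Fitt.ideal B' M' 0 := by
  classical
  have hspan : ∀ {n : ℕ} (x : Fin n → M), Submodule.span B (Set.range x) = ⊤ →
      Submodule.span B' (Set.range fun i => φ (x i)) = ⊤ := by
    intro n x hx
    refine eq_top_iff.2 fun y _ => ?_
    obtain ⟨⟨m, s⟩, hs⟩ := IsLocalizedModule.surj S φ y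
    obtain ⟨c, rfl⟩ := (Submodule.mem_span_range_iff_exists_fun B).1 (hx.ge (Submodule.mem_top (x := m)))
    have hu : IsUnit (algebraMap B B' s.1) := IsLocalization.map_units B' s
    have hmem : φ (∑ i, c i • x i) ∈ Submodule.span B' (Set.range fun i => φ (x i)) := by
      rw [map_sum]
      refine Submodule.sum_mem _ fun i _ => ?_
      rw [map_smul, ← algebraMap_smul B']
      exact Submodule.smul_mem _ _ (Submodule.subset_span ⟨i, rfl⟩)
    rw [← hs] at hmem
    change (s.1 : B) • y ∈ _ at hmem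
    rw [← algebraMap_smul B'] at hmem
    exact (Submodule.smul_mem_iff_of_isUnit _ hu).1 hmem
  refine le_antisymm ?_ ?_
  · rw [Fitt.ideal, Ideal.map_span, Ideal.span_le]
    rintro _ ⟨_, ⟨n, x, a, hx, ha, rfl⟩, rfl⟩
    refine Ideal.subset_span ⟨n, fun i => φ (x i), (algebraMap B B').mapMatrix a, hspan x hx, fun i hi => ?_,
      RingHom.map_det _ _⟩
    have := congrArg φ (ha i hi)
    simpa [algebraMap_smul] using this
  · rw [Fitt.ideal, Ideal.span_le]
    rintro _ ⟨m, y, a, hy, ha, rfl⟩
    replace ha : ∀ i, ∑ j, a i j • y j = 0 := fun i => ha i (by simp)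
    obtain ⟨n, x, hx⟩ := Module.Finite.exists_fin (R := B) (M := M)
    let x' : Fin n → M' := fun i => φ (x i)
    have hx' : Submodule.span B' (Set.range x') = ⊤ := hspan x hx
    have hS : ∀ i, ∃ s : Fin m → B', ∑ k, s k • y k = x' i := fun i =>
      (Submodule.mem_span_range_iff_exists_fun B').1 (hy ▸ Submodule.mem_top)
    have hT : ∀ k, ∃ t : Fin n → B', ∑ j, t j • x' j = y k := fun k =>
      (Submodule.mem_span_range_iff_exists_fun B').1 (hx' ▸ Submodule.mem_top)
    choose s hs using hS
    choose t ht using hT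
    let Z : Matrix (Fin n ⊕ Fin m) (Fin n ⊕ Fin m) B' := Matrix.fromBlocks 1 (-Matrix.of s) 0 a
    let U : Matrix (Fin n ⊕ Fin m) (Fin n ⊕ Fin m) B' := Matrix.fromBlocks 1 0 (Matrix.of t) 1
    let W := Z * U
    have hW : W.det = a.det := by
      rw [Matrix.det_mul, Matrix.det_fromBlocks_zero₂₁, Matrix.det_fromBlocks_zero₁₂]
      simp
    have hrow : ∀ i, ∑ j, W i (.inl j) • x' j = 0 := by
      rintro (i | i)
      · have : ∑ j, (Matrix.of s * Matrix.of t) i j • x' j = x' i := by
          simp only [Matrix.mul_apply, Matrix.of_apply, Finset.sum_smul, mul_smul]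
          rw [Finset.sum_comm]
          simp only [← Finset.smul_sum, ht, hs]
        show ∑ j, (Z * U) (.inl i) (.inl j) • x' j = 0
        simp only [Z, U]
        rw [Matrix.fromBlocks_multiply]
        simp only [Matrix.fromBlocks_apply₁₁, Matrix.one_mul, Matrix.mul_one, Matrix.neg_mul, Matrix.add_apply,
          Matrix.neg_apply, add_smul, neg_smul, Finset.sum_add_distrib, Finset.sum_neg_distrib]
        rw [this]
        simp [Matrix.one_apply, ite_smul]
      · simp only [W, Z, U, Matrix.fromBlocks_multiply, Matrix.fromBlocks_apply₂₁, Matrix.zero_mul, zero_add,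
          Matrix.mul_apply, Matrix.of_apply, Finset.sum_smul, mul_smul]
        rw [Finset.sum_comm]
        simp only [← Finset.smul_sum, ht]
        exact ha i
    obtain ⟨d, hd⟩ := IsLocalization.exist_integer_multiples S Finset.univ
      (fun p : (Fin n ⊕ Fin m) × (Fin n ⊕ Fin m) => W p.1 p.2)
    choose w hw using fun i j => hd (i, j) (Finset.mem_univ _)
    have hzero : ∀ i, ∃ u : S, u.1 • ∑ j, w i (.inl j) • x j = 0 := fun i => by
      have h : φ (∑ j, w i (.inl j) • x j) = φ 0 := by
        rw [map_sum, map_zero]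
        simp only [map_smul]
        rw [show ∑ j, w i (.inl j) • φ (x j) = (d.1 : B) • ∑ j, W i (.inl j) • x' j from ?_, hrow, smul_zero]
        rw [Finset.smul_sum]
        refine Finset.sum_congr rfl fun j _ => ?_
        rw [← algebraMap_smul B' (w i (.inl j)), hw, smul_assoc]
      obtain ⟨u, hu⟩ := IsLocalizedModule.exists_of_eq (S := S) h
      exact ⟨u, by simpa [Submonoid.smul_def] using hu⟩
    choose u hu using hzero
    let W' : Matrix (Fin n ⊕ Fin m) (Fin n ⊕ Fin m) B := Matrix.of fun i j => (u i).1 * w i j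
    have hdet : algebraMap B B' W'.det = algebraMap B B' (∏ i, (u i).1) *
        ((algebraMap B B' d.1) ^ (Fintype.card (Fin n ⊕ Fin m)) * a.det) := by
      rw [RingHom.map_det, ← hW, ← Matrix.det_smul, map_prod, ← Matrix.det_mul_column]
      congr 1
      ext i j
      simp only [RingHom.mapMatrix_apply, Matrix.map_apply, W', Matrix.of_apply, map_mul, hw, Matrix.smul_apply,
        Algebra.smul_def, smul_eq_mul, Algebra.algebraMap_self, RingHom.id_apply]
    have hmem : W'.det ∈ Fitt.ideal B M 0 := by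
      let e := finSumFinEquiv (m := n) (n := m)
      refine Ideal.subset_span ⟨n + m, fun k => Sum.elim x 0 (e.symm k), W'.submatrix e.symm e.symm, ?_, ?_,
        (Matrix.det_submatrix_equiv_self _ _).symm⟩
      · rw [eq_top_iff, ← hx]
        refine Submodule.span_mono ?_
        rintro _ ⟨i, rfl⟩
        exact ⟨e (.inl i), by simp⟩
      · intro k _
        rw [← e.sum_comp, Fintype.sum_sum_type]
        simp only [Matrix.submatrix_apply, Equiv.symm_apply_apply, Sum.elim_inl, Sum.elim_inr, Pi.zero_apply,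
          smul_zero, Finset.sum_const_zero, add_zero, W', Matrix.of_apply, mul_smul, ← Finset.smul_sum]
        exact hu _
    have hm' := Ideal.mem_map_of_mem (algebraMap B B') hmem
    rw [hdet, Ideal.unit_mul_mem_iff_mem _ (IsLocalization.map_units B' (∏ i, u i : S) |> fun h => by
      simpa using h), Ideal.unit_mul_mem_iff_mem _ ((IsLocalization.map_units B' d).pow _)] at hm'
    exact hm'

end Fitting

variable {A S : Type u} [CommRing A] [CommRing S] [Algebra A S]

theorem exists_generator_of_presentation [Algebra.QuasiFinite A S] {N : ℕ}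
    (ψ : MvPolynomial (Fin N) A →ₐ[A] S) (F : Fin N → MvPolynomial (Fin N) A) (hψ : Function.Surjective ψ)
    (hker : RingHom.ker ψ.toRingHom = Ideal.span (Set.range F)) :
    ∃ δ : S ⊗[A] S, δ ∈ J A S ∧ Disc.noetherDifferent A S = Fitt.ideal S Ω[S⁄A] 0 ∧
      ∀ (K : Type u) [Field K] [Algebra A K] (q : S →ₐ[A] K),
        Algebra.TensorProduct.map (AlgHom.id A S) q δ ≠ 0 := by
  let e : (MvPolynomial (Fin N) A ⧸ Ideal.span (Set.range F)) ≃ₐ[A] S :=
    (Ideal.quotientEquivAlgOfEq A hker.symm).trans (Ideal.quotientKerAlgEquivOfSurjective hψ)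
  haveI : Algebra.QuasiFinite A (MvPolynomial (Fin N) A ⧸ Ideal.span (Set.range F)) :=
    (Algebra.QuasiFinite.iff_of_algEquiv e).2 inferInstance
  obtain ⟨hflat, hex⟩ := flat_and_exact_of_quasiFinite F
  let π := Ideal.Quotient.mkₐ A (Ideal.span (Set.range F))
  have hmem : ∀ i, F i ⊗ₜ[A] (1 : MvPolynomial (Fin N) A ⧸ Ideal.span (Set.range F)) ∈
      Ideal.span (Set.range (diag π)) := fun i => by
    rw [span_diag, RingHom.mem_ker, Algebra.TensorProduct.productMap_apply_tmul, map_one, mul_one]
    exact Ideal.Quotient.eq_zero_iff_mem.2 (Ideal.subset_span ⟨i, rfl⟩)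
  choose c hc using fun i => (Ideal.mem_span_range_iff_exists_fun).1 (hmem i)
  let δ₀ := Algebra.TensorProduct.map π (AlgHom.id A (MvPolynomial (Fin N) A ⧸ Ideal.span (Set.range F)))
    (Matrix.det (Matrix.of c))
  have hJ : J A (MvPolynomial (Fin N) A ⧸ Ideal.span (Set.range F)) = Ideal.span {δ₀} :=
    annihilator_ker_lmul_of_exact F hex (diag π) (span_diag π) (Matrix.of c) (fun i => (hc i).symm)
  let ee := Algebra.TensorProduct.congr e e
  refine ⟨ee δ₀, mem_J_iff.2 fun x => ?_, ?_, fun K _ _ q h0 => ?_⟩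
  · have h := congrArg ee (mem_J_iff.1 (hJ ▸ Ideal.mem_span_singleton_self δ₀ : δ₀ ∈ J A _) (e.symm x))
    simpa [ee, map_mul] using h
  · rw [noetherDifferent_map (φ := e.toAlgHom.toRingHom) (ψ := ee.toAlgHom.toRingHom)
      (RingHom.Flat.of_bijective ee.bijective)
      (by
        have : (Algebra.TensorProduct.lmul' (S := S) A).comp ee.toAlgHom =
            e.toAlgHom.comp (Algebra.TensorProduct.lmul' A) := by ext x <;> simp [ee]
        exact congrArg AlgHom.toRingHom this)
      (fun b => ?_)]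
    · rw [(flat_and_noetherDifferent F).2, Ideal.map_span, Set.image_singleton]
      letI : Algebra (MvPolynomial (Fin N) A) S := ψ.toRingHom.toAlgebra
      haveI : IsScalarTower A (MvPolynomial (Fin N) A) S := IsScalarTower.of_algebraMap_eq fun a => (ψ.commutes a).symm
      rw [fitt_kaehler_of_surjective hψ F hker]
      rfl
    · obtain ⟨b, rfl⟩ := e.surjective b
      have hx : b ⊗ₜ[A] (1 : _) - 1 ⊗ₜ[A] b ∈ RingHom.ker (Algebra.TensorProduct.lmul'
          (S := MvPolynomial (Fin N) A ⧸ Ideal.span (Set.range F)) A) := by simp [RingHom.mem_ker]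
      have h := Ideal.mem_map_of_mem ee.toAlgHom.toRingHom hx
      simpa [ee] using h
  · refine image_generator_ne_zero F K (q.comp e.toAlgHom) c hc ?_
    refine (Algebra.TensorProduct.congr e (AlgEquiv.refl : K ≃ₐ[A] K)).injective ?_
    rw [map_zero]
    refine Eq.trans ?_ h0
    have hcomp : (Algebra.TensorProduct.congr e (AlgEquiv.refl : K ≃ₐ[A] K)).toAlgHom.comp
        (Algebra.TensorProduct.map (AlgHom.id A _) (q.comp e.toAlgHom)) =
        (Algebra.TensorProduct.map (AlgHom.id A S) q).comp ee.toAlgHom := by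
      ext x <;> simp [ee]
    exact AlgHom.congr_fun hcomp δ₀

variable {B : Type u} [CommRing B] [Algebra A B]

theorem J_map_of_isLocalization [Algebra.EssFiniteType A B] [Algebra B S] [IsScalarTower A B S] (g : B)
    [IsLocalization.Away g S] [Algebra.FiniteType A B] :
    J A S = (J A B).map (Algebra.TensorProduct.map (IsScalarTower.toAlgHom A B S) (IsScalarTower.toAlgHom A B S)) := by
  let φ := IsScalarTower.toAlgHom A B S
  let ψ := Algebra.TensorProduct.map (S := A) φ φ
  have hflat : φ.Flat := RingHom.flat_algebraMap_iff.2 (IsLocalization.flat S (Submonoid.powers g))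
  have hμ : (Algebra.TensorProduct.lmul' (S := S) A).comp ψ =
      φ.comp (Algebra.TensorProduct.lmul' (S := B) A) := by ext x <;> simp [ψ, φ]
  have hk : RingHom.ker (Algebra.TensorProduct.lmul' (S := S) A) =
      (RingHom.ker (Algebra.TensorProduct.lmul' (S := B) A)).map ψ := by
    refine le_antisymm ?_ ?_
    · show KaehlerDifferential.ideal A S ≤ _
      rw [← KaehlerDifferential.span_range_eq_ideal, Ideal.span_le]
      rintro _ ⟨y, rfl⟩
      let I := (RingHom.ker (Algebra.TensorProduct.lmul' (S := B) A)).map ψ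
      let l : S →+* (S ⊗[A] S) ⧸ I := (Ideal.Quotient.mk I).comp Algebra.TensorProduct.includeLeftRingHom
      let r : S →+* (S ⊗[A] S) ⧸ I :=
        (Ideal.Quotient.mk I).comp (Algebra.TensorProduct.includeRight : S →ₐ[A] S ⊗[A] S).toRingHom
      have hlr : r = l := by
        refine IsLocalization.ringHom_ext (Submonoid.powers g) (RingHom.ext fun x => ?_)
        refine Ideal.Quotient.eq.2 ?_
        have hx : (1 : B) ⊗ₜ[A] x - x ⊗ₜ[A] 1 ∈ RingHom.ker (Algebra.TensorProduct.lmul' (S := B) A) := by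
          simp [RingHom.mem_ker]
        have := Ideal.mem_map_of_mem ψ hx
        rw [map_sub, Algebra.TensorProduct.map_tmul, Algebra.TensorProduct.map_tmul, map_one] at this
        exact this
      exact Ideal.Quotient.eq.1 (RingHom.congr_fun hlr y)
    · rw [Ideal.map_le_iff_le_comap]
      intro x hx
      show Algebra.TensorProduct.lmul' (S := S) A (ψ x) = 0
      rw [← AlgHom.comp_apply, hμ, AlgHom.comp_apply, RingHom.mem_ker.1 hx, map_zero]
  show Submodule.annihilator (RingHom.ker (Algebra.TensorProduct.lmul' (S := S) A)) = _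
  rw [hk]
  exact annihilator_map ψ.toRingHom (RingHom.Flat.tensorProductMap hflat hflat) _ (KaehlerDifferential.ideal_fg A B)

theorem exists_pair_notMem [Module.Finite A B] [Module.Free A B] [Algebra B S] [IsScalarTower A B S] (g : B)
    [IsLocalization.Away g S] (δ : S ⊗[A] S) (hδ : δ ∈ J A S) (m : Ideal B) [m.IsMaximal] (hg : g ∉ m)
    (hne : ∀ (K : Type u) [Field K] [Algebra A K] (q : S →ₐ[A] K),
      Algebra.TensorProduct.map (AlgHom.id A S) q δ ≠ 0) :
    ∃ ξ ∈ J A B, ∃ l, pair l ξ ∉ m := by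
  by_contra hcon
  push Not at hcon
  haveI : Algebra.EssFiniteType A B := inferInstance
  letI := Ideal.Quotient.field m
  let q₀ : B →ₐ[A] B ⧸ m := Ideal.Quotient.mkₐ A m
  have hu : IsUnit (q₀ g) := isUnit_iff_ne_zero.2 fun h => hg (Ideal.Quotient.eq_zero_iff_mem.1 h)
  let q : S →ₐ[A] B ⧸ m := IsLocalization.Away.liftAlgHom (f := q₀) g hu
  let φ := IsScalarTower.toAlgHom A B S
  refine hne (B ⧸ m) q ?_
  have hle : (J A B).map (Algebra.TensorProduct.map φ φ) ≤
      RingHom.ker (Algebra.TensorProduct.map (AlgHom.id A S) q) := by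
    rw [Ideal.map_le_iff_le_comap]
    intro ξ hξ
    let b := Module.Free.chooseBasis A B
    show Algebra.TensorProduct.map (AlgHom.id A S) q (Algebra.TensorProduct.map φ φ ξ) = 0
    rw [← sum_pair b ξ, map_sum, map_sum]
    refine Finset.sum_eq_zero fun k _ => ?_
    rw [Algebra.TensorProduct.map_tmul, Algebra.TensorProduct.map_tmul,
      show q (φ (pair (coordω b k) ξ)) = q₀ (pair (coordω b k) ξ) from IsLocalization.Away.lift_eq g hu _,
      show q₀ (pair (coordω b k) ξ) = 0 from Ideal.Quotient.eq_zero_iff_mem.2 (hcon ξ hξ _), tmul_zero]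
  exact hle ((J_map_of_isLocalization (A := A) (B := B) (S := S) g).le hδ)

theorem differentSet_eq_of_forall_exists [Module.Finite A B] [Module.Free A B]
    (h : ∀ m : Ideal B, m.IsMaximal → ∃ ξ ∈ J A B, ∃ l, pair l ξ ∉ m) :
    Disc.differentSet A B = (Disc.noetherDifferent A B : Set B) := by
  refine Set.Subset.antisymm (fun b hb => ?_) noetherDifferent_subset_differentSet
  let I : Ideal B := Submodule.comap (LinearMap.mulLeft B b) (Disc.noetherDifferent A B)
  suffices hI : I = ⊤ by
    have h1 : (1 : B) ∈ I := hI ▸ Submodule.mem_top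
    have h2 : b * 1 ∈ Disc.noetherDifferent A B := h1
    rwa [mul_one] at h2
  by_contra hne
  obtain ⟨m, hm, hle⟩ := Ideal.exists_le_maximal I hne
  obtain ⟨ξ, hξ, l, hl⟩ := h m hm
  refine hl (hle ?_)
  obtain ⟨c, hc⟩ := mem_differentSet_iff.1 hb l
  show b * pair l ξ ∈ Disc.noetherDifferent A B
  rw [show b * pair l ξ = toHom hξ (b • l) from (map_smul (toHom hξ) b l).symm, hc, map_smul, smul_eq_mul]
  exact Ideal.mul_mem_left _ _ (mem_noetherDifferent_iff.2 ⟨ξ, hξ, (pair_trace hξ).symm⟩)

theorem differentSet_eq_fitt_of_syntomic [IsNoetherianRing A] [Module.Finite A B] [Module.Free A B]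
    (h : Synt.IsSyntomic A B) :
    Disc.differentSet A B = (Fitt.ideal B Ω[B⁄A] 0 : Set B) := by
  haveI := h.2.1
  have hloc : ∀ m : Ideal B, m.IsMaximal → (∃ ξ ∈ J A B, ∃ l, pair l ξ ∉ m) ∧ ∃ g ∉ m,
      ∀ b : B, (b ∈ Fitt.ideal B Ω[B⁄A] 0 → ∃ k : ℕ, g ^ k * b ∈ Disc.noetherDifferent A B) ∧
        (b ∈ Disc.noetherDifferent A B → ∃ k : ℕ, g ^ k * b ∈ Fitt.ideal B Ω[B⁄A] 0) := by
    intro m hm
    obtain ⟨g, hg, S, _, _, _, _, _, N, ψ, F, hψ, hker⟩ := exists_square_presentation (A := A) m (h.2.2 ⟨m.under A, inferInstance⟩)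
    haveI : Algebra.QuasiFinite A S := Algebra.QuasiFinite.of_isLocalization (S := B) (Submonoid.powers g)
    obtain ⟨δ, hδ, heq, hne⟩ := exists_generator_of_presentation ψ F hψ hker
    refine ⟨exists_pair_notMem g δ hδ m hg hne, g, hg, ?_⟩
    have hN : Disc.noetherDifferent A S = (Disc.noetherDifferent A B).map (algebraMap B S) :=
      noetherDifferent_openImmersion (AlgebraicGeometry.IsOpenImmersion.of_isLocalization g)
    have hF : (Fitt.ideal B Ω[B⁄A] 0).map (algebraMap B S) = Fitt.ideal S Ω[S⁄A] 0 :=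
      fittIdeal_zero_map (Submonoid.powers g) (KaehlerDifferential.map A A B S)
    intro b
    constructor
    · intro hb
      have : algebraMap B S b ∈ (Disc.noetherDifferent A B).map (algebraMap B S) := by
        rw [← hN, heq, ← hF]; exact Ideal.mem_map_of_mem _ hb
      obtain ⟨_, ⟨k, rfl⟩, hk⟩ := (IsLocalization.algebraMap_mem_map_algebraMap_iff (Submonoid.powers g) S _ b).1 this
      exact ⟨k, hk⟩
    · intro hb
      have : algebraMap B S b ∈ (Fitt.ideal B Ω[B⁄A] 0).map (algebraMap B S) := by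
        rw [hF, ← heq, hN]; exact Ideal.mem_map_of_mem _ hb
      obtain ⟨_, ⟨k, rfl⟩, hk⟩ := (IsLocalization.algebraMap_mem_map_algebraMap_iff (Submonoid.powers g) S _ b).1 this
      exact ⟨k, hk⟩
  rw [differentSet_eq_of_forall_exists fun m hm => (hloc m hm).1]
  congr 1
  have key : ∀ (I K : Ideal B), (∀ m : Ideal B, m.IsMaximal → ∀ b ∈ I, ∃ g ∉ m, ∃ k : ℕ, g ^ k * b ∈ K) → I ≤ K := by
    intro I K hIK b hb
    let L : Ideal B := Submodule.comap (LinearMap.mulRight B b) K
    suffices hL : L = ⊤ by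
      have h1 : (1 : B) ∈ L := hL ▸ Submodule.mem_top
      have h2 : 1 * b ∈ K := h1
      rwa [one_mul] at h2
    by_contra hne
    obtain ⟨m, hm, hle⟩ := Ideal.exists_le_maximal L hne
    obtain ⟨g, hg, k, hk⟩ := hIK m hm b hb
    exact hg (hm.isPrime.mem_of_pow_mem k (hle hk))
  refine le_antisymm (key _ _ fun m hm b hb => ?_) (key _ _ fun m hm b hb => ?_)
  · obtain ⟨g, hg, h'⟩ := (hloc m hm).2
    exact ⟨g, hg, (h' b).2 hb⟩
  · obtain ⟨g, hg, h'⟩ := (hloc m hm).2
    exact ⟨g, hg, (h' b).1 hb⟩

end Groth.Agent.Disc12
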