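import Groth.Agent.Disc12.Duality

/-! The Noether different cuts out the ramified locus. -/

universe u v

set_option autoImplicit false

open TensorProduct

namespace Groth.Agent.Disc12

variable {A : Type u} {B : Type v} [CommRing A] [CommRing B] [Algebra A B]

theorem noetherDifferent_le_annihilator :
    Disc.noetherDifferent A B ≤ Module.annihilator B Ω[B⁄A] := by
  intro b hb
  obtain ⟨ξ, hξ, rfl⟩ := mem_noetherDifferent_iff.1 hb
  rw [Module.mem_annihilator]
  intro m
  obtain ⟨y, rfl⟩ := Ideal.toCotangent_surjective _ m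
  refine (algebraMap_smul (B ⊗[A] B) (μ A B ξ) (Ideal.toCotangent (KaehlerDifferential.ideal A B) y)).symm.trans ?_
  refine ((Ideal.toCotangent (KaehlerDifferential.ideal A B)).map_smul (algebraMap B (B ⊗[A] B) (μ A B ξ)) y).symm.trans ?_
  refine (Ideal.toCotangent_eq_zero _ _).2 ?_
  rw [sq]
  have h0 : ξ * (y : B ⊗[A] B) = 0 := by
    have := Submodule.mem_annihilator.1 hξ _ y.2
    simpa using this
  have h1 : algebraMap B (B ⊗[A] B) (μ A B ξ) - ξ ∈ KaehlerDifferential.ideal A B := by
    show μ A B _ = 0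
    simp [μ]
  have : (((algebraMap B (B ⊗[A] B) (μ A B ξ)) • y : KaehlerDifferential.ideal A B) : B ⊗[A] B) =
      (algebraMap B (B ⊗[A] B) (μ A B ξ) - ξ) * y := by
    rw [sub_mul, h0, sub_zero]; rfl
  rw [this]
  exact Ideal.mul_mem_mul h1 y.2

theorem exists_mem_of_notMem_annihilator [Algebra.FiniteType A B] (q : Ideal B) [q.IsPrime] {a : B}
    (ha : a ∈ Module.annihilator B Ω[B⁄A]) (haq : a ∉ q) : ¬ Disc.noetherDifferent A B ≤ q := by
  classical
  let C := B ⊗[A] B
  let I : Ideal C := KaehlerDifferential.ideal A B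
  let P : Ideal C := q.comap (μ A B)
  haveI : P.IsPrime := Ideal.IsPrime.comap _
  let R := Localization.AtPrime P
  let r : C := algebraMap B C a
  have hrI : ∀ y ∈ I, r * y ∈ I * I := fun y hy => by
    have := Module.mem_annihilator.1 ha (Ideal.toCotangent _ ⟨y, hy⟩)
    rw [← sq]
    have h2 := ((algebraMap_smul C a (Ideal.toCotangent I ⟨y, hy⟩)).trans this)
    replace this := ((Ideal.toCotangent I).map_smul r ⟨y, hy⟩).trans h2
    exact (Ideal.toCotangent_eq_zero _ (r • ⟨y, hy⟩)).1 this
  have hr : r ∉ P := fun h => haq (by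
    have h' : μ A B (algebraMap B C a) ∈ q := h
    simpa [μ, C, Algebra.TensorProduct.algebraMap_apply] using h')
  have hfg : I.FG := KaehlerDifferential.ideal_fg A B
  have hle : I.map (algebraMap C R) ≤ I.map (algebraMap C R) • I.map (algebraMap C R) := by
    rw [smul_eq_mul, ← Ideal.map_mul, Ideal.map_le_iff_le_comap]
    intro y hy
    have h := Ideal.mem_map_of_mem (algebraMap C R) (hrI y hy)
    rw [map_mul] at h
    exact (Ideal.unit_mul_mem_iff_mem _ (IsLocalization.map_units R (⟨r, hr⟩ : P.primeCompl))).1 h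
  have hIP : I ≤ P := fun y hy => by
    show μ A B y ∈ q
    rw [show μ A B y = 0 from hy]
    exact q.zero_mem
  have hbot : I.map (algebraMap C R) = ⊥ := by
    refine Submodule.eq_bot_of_le_smul_of_le_jacobson_bot _ _ (hfg.map _) hle ?_
    rw [IsLocalRing.jacobson_eq_maximalIdeal _ bot_ne_top, ← Localization.AtPrime.map_eq_maximalIdeal]
    exact Ideal.map_mono hIP
  obtain ⟨s, hs⟩ := hfg
  have hkill : ∀ y : s, ∃ c : P.primeCompl, (c : C) * y = 0 := fun y =>
    (IsLocalization.map_eq_zero_iff P.primeCompl R _).1 ((Ideal.mem_bot).1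
      (hbot ▸ Ideal.mem_map_of_mem (algebraMap C R) (hs ▸ Ideal.subset_span y.2)))
  choose c hc using hkill
  have hξ : ((∏ y : s, c y : P.primeCompl) : C) ∈ J A B := by
    refine Submodule.mem_annihilator.2 fun y hy => ?_
    have hy' : y ∈ Ideal.span (s : Set C) := hs ▸ hy
    refine (Ideal.span_le (I := LinearMap.ker (LinearMap.mulLeft C ((∏ y : s, c y : P.primeCompl) : C)))).2 ?_ hy'
    intro z hz
    show _ * z = 0
    rw [← Finset.prod_erase_mul _ _ (Finset.mem_univ (⟨z, hz⟩ : s)), Submonoid.coe_mul, mul_assoc]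
    simp [hc ⟨z, hz⟩]
  intro h
  exact (∏ y : s, c y).2 (h (mem_noetherDifferent_iff.2 ⟨_, hξ, rfl⟩))

theorem zeroLocus_noetherDifferent [Algebra.FiniteType A B] :
    {q : PrimeSpectrum B | Disc.noetherDifferent A B ≤ q.asIdeal} = (Algebra.unramifiedLocus A B)ᶜ := by
  rw [Algebra.unramifiedLocus_eq_compl_support, compl_compl, Module.support_eq_zeroLocus]
  ext q
  simp only [Set.mem_setOf_eq, PrimeSpectrum.mem_zeroLocus, SetLike.coe_subset_coe]
  refine ⟨fun h => ?_, fun h => noetherDifferent_le_annihilator.trans h⟩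
  intro a ha
  by_contra haq
  exact exists_mem_of_notMem_annihilator q.asIdeal ha haq h

theorem differentSet_subset_iff_not_isUnramifiedAt [Module.Finite A B] [Module.Free A B]
    (q : Ideal B) [hq : q.IsPrime] : Disc.differentSet A B ⊆ q ↔ ¬ Algebra.IsUnramifiedAt A q := by
  rw [differentSet_subset_iff_noether]
  exact Iff.of_eq congr((⟨q, hq⟩ : PrimeSpectrum B) ∈ $(zeroLocus_noetherDifferent (A := A) (B := B)))

end Groth.Agent.Disc12
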